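import Groth.Agent.L09.Pull.Coind
import Groth.Agent.L09.ModEt.Generators

/-!
# Sections of inverse images of quasi-coherent modules
-/

universe u

open CategoryTheory CategoryTheory.Limits AlgebraicGeometry Opposite AlgSp TensorProduct

set_option autoImplicit false
set_option linter.style.haveILetI false
set_option backward.isDefEq.respectTransparency false
set_option backward.isDefEq.respectTransparency.types false

noncomputable section

namespace Groth.L09.Pull

open ModEt

variable {S : Scheme.{u}} {X Y : Sp S} {f : X ⟶ Y} (hf : Representable f)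
  [(SheafOfModules.pushforward.{u + 1} (bcRingHom hf)).IsRightAdjoint] (G : ModEt Y)

omit [(SheafOfModules.pushforward.{u + 1} (bcRingHom hf)).IsRightAdjoint] in
/-- A value of the structure sheaf as a function. -/
abbrev dnR {X' : Sp S} {Z : (EtOver X')ᵒᵖ} (r : (OEtRing X').obj.obj Z) : Γ₀ Z.unop :=
  (r : ULift.{u + 1} (Γ₀ Z.unop)).down

/-- The inverse image. -/
abbrev pullM : ModEt X := (pullModEt hf).obj G

/-- The unit on sections. -/
def η (E : EtOver Y) : sectModEt G E →+ sectModEt (pullM hf G) (EtOver.bcObj hf E) :=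
  AddMonoidHom.mk' (fun y => ((pullPushAdjModEt hf).unit.app G).val.app (op E) y) fun y y' =>
    map_add (((pullPushAdjModEt hf).unit.app G).val.app (op E)).hom y y'

theorem η_smul {E : EtOver Y} (r : Γ₀ E) (y : sectModEt G E) : η hf G E (r • y) = π₀ hf E r • η hf G E y :=
  map_smul (((pullPushAdjModEt hf).unit.app G).val.app (op E)).hom (upΓ E r) y

theorem η_res {E E' : EtOver Y} (g : E' ⟶ E) (y : sectModEt G E) :
    η hf G E' (res G g y) = res (pullM hf G) (EtOver.bcMap hf g) (η hf G E y) :=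
  PresheafOfModules.naturality_apply ((pullPushAdjModEt hf).unit.app G).val g.op y

section Prod

variable (E' E : EtOver Y)

omit [(SheafOfModules.pushforward.{u + 1} (bcRingHom hf)).IsRightAdjoint] in
theorem exists_lift_prod {Z : EtOver X} (z : Z ⟶ EtOver.bcObj hf E') (u : Z ⟶ EtOver.bcObj hf E) :
    ∃ k : Z ⟶ EtOver.bcObj hf (EtOver.prodObj E' E),
      k ≫ EtOver.bcMap hf (EtOver.prodFst E' E) = z ∧ k ≫ EtOver.bcMap hf (EtOver.prodSnd E' E) = u := by
  have hz : (yon S).map (z.hom.left ≫ EtOver.bcπ hf E') ≫ E'.obj.hom = Z.obj.hom ≫ f := by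
    rw [Functor.map_comp, Category.assoc, ← (EtOver.isPullback_bcObj hf E').w, ← Category.assoc, EtOver.w z]
  have hu : (yon S).map (u.hom.left ≫ EtOver.bcπ hf E) ≫ E.obj.hom = Z.obj.hom ≫ f := by
    rw [Functor.map_comp, Category.assoc, ← (EtOver.isPullback_bcObj hf E).w, ← Category.assoc, EtOver.w u]
  let j := E.property.1.lift' (u.hom.left ≫ EtOver.bcπ hf E) (z.hom.left ≫ EtOver.bcπ hf E') (hu.trans hz.symm)
  have hj : Z.obj.hom ≫ f = (yon S).map j ≫ (EtOver.prodObj E' E).obj.hom := by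
    refine hz.symm.trans ?_
    show _ = (yon S).map j ≫ (yon S).map _ ≫ E'.obj.hom
    rw [← Category.assoc, ← Functor.map_comp, Functor.relativelyRepresentable.lift'_snd]
  let k : Z ⟶ EtOver.bcObj hf (EtOver.prodObj E' E) :=
    EtOver.homMk (hf.lift Z.obj.hom j hj) (hf.lift_fst _ _ _)
  refine ⟨k, EtOver.hom_ext _ _ (hf.hom_ext ?_ ?_), EtOver.hom_ext _ _ (hf.hom_ext ?_ ?_)⟩
  · exact (EtOver.w (k ≫ EtOver.bcMap hf (EtOver.prodFst E' E))).trans (EtOver.w z).symm
  · show (hf.lift Z.obj.hom j hj ≫ (EtOver.bcMap hf (EtOver.prodFst E' E)).hom.left) ≫ _ = z.hom.left ≫ _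
    rw [Category.assoc, EtOver.bcMap_snd, ← Category.assoc, hf.lift_snd]
    exact Functor.relativelyRepresentable.lift'_snd _ _ _ _
  · exact (EtOver.w (k ≫ EtOver.bcMap hf (EtOver.prodSnd E' E))).trans (EtOver.w u).symm
  · show (hf.lift Z.obj.hom j hj ≫ (EtOver.bcMap hf (EtOver.prodSnd E' E)).hom.left) ≫ _ = u.hom.left ≫ _
    rw [Category.assoc, EtOver.bcMap_snd, ← Category.assoc, hf.lift_snd]
    exact Functor.relativelyRepresentable.lift'_fst _ _ _ _

omit [(SheafOfModules.pushforward.{u + 1} (bcRingHom hf)).IsRightAdjoint] in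
theorem lift_prod_unique {Z : EtOver X} {k k' : Z ⟶ EtOver.bcObj hf (EtOver.prodObj E' E)}
    (h₁ : k ≫ EtOver.bcMap hf (EtOver.prodFst E' E) = k' ≫ EtOver.bcMap hf (EtOver.prodFst E' E))
    (h₂ : k ≫ EtOver.bcMap hf (EtOver.prodSnd E' E) = k' ≫ EtOver.bcMap hf (EtOver.prodSnd E' E)) : k = k' := by
  refine EtOver.hom_ext _ _ (hf.hom_ext ((EtOver.w k).trans (EtOver.w k').symm) ?_)
  have e₁ := congrArg (fun p => p.hom.left ≫ EtOver.bcπ hf E') h₁
  have e₂ := congrArg (fun p => p.hom.left ≫ EtOver.bcπ hf E) h₂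
  change (k.hom.left ≫ _) ≫ _ = (k'.hom.left ≫ _) ≫ _ at e₁
  change (k.hom.left ≫ _) ≫ _ = (k'.hom.left ≫ _) ≫ _ at e₂
  simp only [Category.assoc, EtOver.bcMap_snd] at e₁ e₂
  simp only [← Category.assoc] at e₁ e₂
  exact Functor.relativelyRepresentable.hom_ext' _ e₂ e₁

variable {E' E}

/-- The lift to the base change of the product. -/
def kProd {Z : EtOver X} (z : Z ⟶ EtOver.bcObj hf E') (u : Z ⟶ EtOver.bcObj hf E) :
    Z ⟶ EtOver.bcObj hf (EtOver.prodObj E' E) :=
  (exists_lift_prod hf E' E z u).choose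

omit [(SheafOfModules.pushforward.{u + 1} (bcRingHom hf)).IsRightAdjoint] in
theorem kProd_fst {Z : EtOver X} (z : Z ⟶ EtOver.bcObj hf E') (u : Z ⟶ EtOver.bcObj hf E) :
    kProd hf z u ≫ EtOver.bcMap hf (EtOver.prodFst E' E) = z := (exists_lift_prod hf E' E z u).choose_spec.1

omit [(SheafOfModules.pushforward.{u + 1} (bcRingHom hf)).IsRightAdjoint] in
theorem kProd_snd {Z : EtOver X} (z : Z ⟶ EtOver.bcObj hf E') (u : Z ⟶ EtOver.bcObj hf E) :
    kProd hf z u ≫ EtOver.bcMap hf (EtOver.prodSnd E' E) = u := (exists_lift_prod hf E' E z u).choose_spec.2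

end Prod

variable {E : EtOver Y}

omit [(SheafOfModules.pushforward.{u + 1} (bcRingHom hf)).IsRightAdjoint] in
/-- An element of the algebra of functions, as a function. -/
abbrev toΓ {Z : EtOver X} {u : Z ⟶ EtOver.bcObj hf E} (b : Rg hf u) : Γ₀ Z := b

/-- The comparison to the sections of the inverse image. -/
def θ' {Z : EtOver X} (u : Z ⟶ EtOver.bcObj hf E) : Tn hf G u →+ sectModEt (pullM hf G) Z :=
  TensorProduct.liftAddHom
    (AddMonoidHom.mk' (fun b => (DistribSMul.toAddMonoidHom (sectModEt (pullM hf G) Z) (toΓ hf b)).comp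
        ((res (pullM hf G) u).comp (η hf G E)))
      fun b b' => AddMonoidHom.ext fun m => add_smul (toΓ hf b) (toΓ hf b') (res (pullM hf G) u (η hf G E m)))
    fun r b m => by
      show (pb u (π₀ hf E r) * toΓ hf b) • res (pullM hf G) u (η hf G E m) =
        toΓ hf b • res (pullM hf G) u (η hf G E (r • m))
      rw [η_smul, res_smul, smul_smul, mul_comm]

theorem θ'_mk {Z : EtOver X} (u : Z ⟶ EtOver.bcObj hf E) (b : Γ₀ Z) (m : sectModEt G E) :
    θ' hf G u (mkTn hf G u b m) = b • res (pullM hf G) u (η hf G E m) := rfl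

theorem θ'_smul {Z : EtOver X} (u : Z ⟶ EtOver.bcObj hf E) (a : Γ₀ Z) (x : Tn hf G u) :
    θ' hf G u (a • x) = a • θ' hf G u x := by
  induction x using TensorProduct.induction_on with
  | zero => simp
  | tmul b m =>
    show θ' hf G u (a • mkTn hf G u b m) = a • θ' hf G u (mkTn hf G u b m)
    rw [smul_mkTn, θ'_mk, θ'_mk, smul_smul]
  | add x y hx hy => simp only [smul_add, map_add, hx, hy]

theorem res_θ' {Z Z' : EtOver X} (z : Z' ⟶ Z) {u : Z ⟶ EtOver.bcObj hf E} {u' : Z' ⟶ EtOver.bcObj hf E}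
    (h : z ≫ u = u') (x : Tn hf G u) :
    res (pullM hf G) z (θ' hf G u x) = θ' hf G u' (tres hf G z h x) := by
  induction x using TensorProduct.induction_on with
  | zero => simp
  | tmul b m =>
    show res (pullM hf G) z (θ' hf G u (mkTn hf G u b m)) = θ' hf G u' (tres hf G z h (mkTn hf G u b m))
    rw [θ'_mk, tres_mk, θ'_mk, res_smul, ← res_comp, h]
  | add x y hx hy => simp only [map_add, hx, hy]

variable [G.IsQuasicoherent] [IsAffine E.obj.left.left]

variable (E) in
/-- The value of the test map. -/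
def αFam (E' : EtOver Y) : sectModEt G E' →+ Fam hf G E (EtOver.bcObj hf E') :=
  AddMonoidHom.mk' (fun y => ⟨fun c => haveI := c.aff
      T hf G (EtOver.prodSnd E' E) (kProd hf c.z c.u) (kProd_snd hf _ _) (res G (EtOver.prodFst E' E) y),
    fun c c' w hw hu => by
      haveI := c.aff
      haveI := c'.aff
      rw [tres_T]
      exact T_congr hf G (lift_prod_unique hf E' E (by rw [Category.assoc, kProd_fst, kProd_fst, hw])
        (by rw [Category.assoc, kProd_snd, kProd_snd, hu])) _ _⟩)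
    fun y y' => Subtype.ext (funext fun c => by
      haveI := c.aff
      show T hf G _ _ _ (res G _ (y + y')) = _
      rw [map_add, map_add]
      rfl)

omit [(SheafOfModules.pushforward.{u + 1} (bcRingHom hf)).IsRightAdjoint] in
theorem αFam_apply (E' : EtOver Y) (y : sectModEt G E') (c : Chart hf E (EtOver.bcObj hf E'))
    [IsAffine c.src.obj.left.left] :
    (αFam hf G E E' y).1 c =
      T hf G (EtOver.prodSnd E' E) (kProd hf c.z c.u) (kProd_snd hf _ _) (res G (EtOver.prodFst E' E) y) := rfl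

variable (E) in
/-- The test map. -/
def α : G ⟶ (pushModEt hf).obj (coind hf G E) where
  val := PresheafOfModules.homMk
    { app := fun E' => AddCommGrpCat.ofHom (αFam hf G E E'.unop)
      naturality := fun E₁ E₂ g => AddCommGrpCat.ext fun y => Subtype.ext (funext fun c => by
        haveI := c.aff
        let m : EtOver.prodObj E₂.unop E ⟶ EtOver.prodObj E₁.unop E :=
          ((BinaryFan.IsLimit.lift' (EtOver.prodIsLimit E₁.unop E) (EtOver.prodFst E₂.unop E ≫ g.unop)
            (EtOver.prodSnd E₂.unop E)).1)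
        have hm₁ : m ≫ EtOver.prodFst E₁.unop E = EtOver.prodFst E₂.unop E ≫ g.unop :=
          (BinaryFan.IsLimit.lift' (EtOver.prodIsLimit E₁.unop E) _ _).2.1
        have hm₂ : m ≫ EtOver.prodSnd E₁.unop E = EtOver.prodSnd E₂.unop E :=
          (BinaryFan.IsLimit.lift' (EtOver.prodIsLimit E₁.unop E) _ _).2.2
        show T hf G _ _ _ (res G (EtOver.prodFst E₂.unop E) (res G g.unop y)) =
          T hf G _ (kProd hf (c.z ≫ EtOver.bcMap hf g.unop) c.u) _ (res G (EtOver.prodFst E₁.unop E) y)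
        rw [← res_comp, ← hm₁, res_comp, T_res hf G (EtOver.prodSnd E₁.unop E) m hm₂]
        refine T_congr hf G (lift_prod_unique hf E₁.unop E ?_ ?_) _ _
        · rw [kProd_fst, Category.assoc, ← bcMap_comp, hm₁, bcMap_comp, ← Category.assoc, kProd_fst]
        · rw [kProd_snd, Category.assoc, ← bcMap_comp, hm₂, kProd_snd]) }
    fun E' r y => Subtype.ext (funext fun c => by
      haveI := c.aff
      show T hf G _ _ _ (res G (EtOver.prodFst E'.unop E) (dnR r • (show sectModEt G E'.unop from y))) =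
        pb c.z (π₀ hf E'.unop (dnR r)) • T hf G _ _ _ _
      rw [res_smul, T_smul, ← π₀_nat, ← pb_comp, kProd_fst]
      rfl)

variable (E) in
/-- The adjunct test map. -/
def Aα : pullM hf G ⟶ coind hf G E := ((pullPushAdjModEt hf).homEquiv _ _).symm (α hf G E)

theorem Aα_η (E' : EtOver Y) (y : sectModEt G E') :
    (Aα hf G E).val.app (op (EtOver.bcObj hf E')) (η hf G E' y) = αFam hf G E E' y := by
  have h : (pullPushAdjModEt hf).unit.app G ≫ (pushModEt hf).map (Aα hf G E) = α hf G E :=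
    ((pullPushAdjModEt hf).homEquiv_unit _ _ _).symm.trans (Equiv.apply_symm_apply _ _)
  exact congrArg (fun φ => φ.val.app (op E') y) h

/-- Evaluation of the test map at the tautological chart. -/
def ev {Z : EtOver X} [hZ : IsAffine Z.obj.left.left] (u : Z ⟶ EtOver.bcObj hf E) :
    sectModEt (pullM hf G) Z →+ Tn hf G u :=
  AddMonoidHom.mk' (fun m => ((Aα hf G E).val.app (op Z) m : Fam hf G E Z).1 ⟨Z, hZ, 𝟙 Z, u⟩) fun m m' => by
    rw [map_add]; rfl

theorem ev_θ' {Z : EtOver X} [IsAffine Z.obj.left.left] (u : Z ⟶ EtOver.bcObj hf E) (x : Tn hf G u) :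
    ev hf G u (θ' hf G u x) = x := by
  induction x using TensorProduct.induction_on with
  | zero => simp
  | tmul b m =>
    show ev hf G u (θ' hf G u (mkTn hf G u b m)) = mkTn hf G u b m
    rw [θ'_mk]
    show ((Aα hf G E).val.app (op Z) (upΓ Z b • res (pullM hf G) u (η hf G E m)) : Fam hf G E Z).1 _ = _
    rw [map_smul]
    show pb (𝟙 Z) b • ((Aα hf G E).val.app (op Z) (res (pullM hf G) u (η hf G E m)) : Fam hf G E Z).1
      ⟨Z, _, 𝟙 Z, u⟩ = _
    rw [pb_id, show (Aα hf G E).val.app (op Z) (res (pullM hf G) u (η hf G E m)) =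
      (coind hf G E).val.map u.op ((Aα hf G E).val.app _ (η hf G E m)) from
      PresheafOfModules.naturality_apply (Aα hf G E).val u.op (η hf G E m), Aα_η]
    let d : E ⟶ EtOver.prodObj E E := (BinaryFan.IsLimit.lift' (EtOver.prodIsLimit E E) (𝟙 E) (𝟙 E)).1
    have hd₁ : d ≫ EtOver.prodFst E E = 𝟙 E := (BinaryFan.IsLimit.lift' (EtOver.prodIsLimit E E) _ _).2.1
    have hd₂ : d ≫ EtOver.prodSnd E E = 𝟙 E := (BinaryFan.IsLimit.lift' (EtOver.prodIsLimit E E) _ _).2.2
    show b • T hf G (EtOver.prodSnd E E) (kProd hf (𝟙 Z ≫ u) u) _ (res G (EtOver.prodFst E E) m) = _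
    rw [T_congr hf G (lift_prod_unique hf E E (k := kProd hf (𝟙 Z ≫ u) u) (k' := u ≫ EtOver.bcMap hf d)
      (by rw [kProd_fst, Category.assoc, ← bcMap_comp, hd₁, bcMap_id, Category.id_comp, Category.comp_id])
      (by rw [kProd_snd, Category.assoc, ← bcMap_comp, hd₂, bcMap_id, Category.comp_id])),
      ← T_res hf G (EtOver.prodSnd E E) d hd₂ u (by rw [bcMap_id, Category.comp_id]), ← res_comp, hd₁, res_id,
      T_affine]
    have h1 : toTn hf G (𝟙 E) u _ ((1 : Γ₀ E) • res G (𝟙 E) m) = _ := toTn_res hf G (𝟙 E) u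
      (by rw [bcMap_id, Category.comp_id]) 1 m
    rw [one_smul, res_id] at h1
    rw [h1, map_one, map_one, smul_mkTn, mul_one]
  | add x y hx hy => simp only [map_add, hx, hy]

theorem injective_θ' {Z : EtOver X} [IsAffine Z.obj.left.left] (u : Z ⟶ EtOver.bcObj hf E) :
    Function.Injective (θ' hf G u) := fun x y h => by rw [← ev_θ' hf G u x, ← ev_θ' hf G u y, h]

/-- Units are given by transfers. -/
theorem res_η_eq {P : EtOver Y} (a : P ⟶ E) {Z : EtOver X} [IsAffine Z.obj.left.left]
    {u : Z ⟶ EtOver.bcObj hf E} (k : Z ⟶ EtOver.bcObj hf P) (hk : k ≫ EtOver.bcMap hf a = u)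
    (y : sectModEt G P) : res (pullM hf G) k (η hf G P y) = θ' hf G u (T hf G a k hk y) := by
  obtain ⟨ι, _, V, g, Q, c, k', hg, hV, hQ, hk'⟩ := exists_lift_affine hf k
  refine eq_of_cover (pullM hf G) hg fun i => ?_
  haveI := hV i
  haveI := hQ i
  have h : k' i ≫ EtOver.bcMap hf (c i ≫ a) = g i ≫ u := by rw [bcMap_comp, reassoc_of% (hk' i), hk]
  rw [res_θ' hf G (g i) rfl, isT_T hf G a k hk y (V i) (hV i) (g i) (Q i) (hQ i) (c i) (k' i) (hk' i) h,
    ← res_comp, ← hk' i, res_comp, ← η_res]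
  generalize res G (c i) y = w
  induction w using sect_induction G (c i ≫ a) with
  | h0 => simp
  | hadd x y hx hy => simp only [map_add, hx, hy]
  | h b m => rw [η_smul, res_smul, η_res, ← res_comp, h, toTn_res, θ'_mk]

/-- The submodule generated by the units. -/
def ηSub : (pullM hf G).val.Submodule where
  obj Z := Submodule.span ((OEtRing X).obj.obj Z)
    {x | ∃ (E' : EtOver Y) (k : Z.unop ⟶ EtOver.bcObj hf E') (y : sectModEt G E'),
      res (pullM hf G) k (η hf G E' y) = x}
  map {Z Z'} g := Submodule.span_le.2 (by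
    rintro _ ⟨E', k, y, rfl⟩
    exact Submodule.subset_span ⟨E', g.unop ≫ k, y, res_comp _ _ _ _⟩)

omit [G.IsQuasicoherent] [IsAffine E.obj.left.left] in
theorem exists_cover_mem (W : EtOver X) (m : sectModEt (pullM hf G) W) :
    ∃ R ∈ etTop X W, ∀ ⦃W' : EtOver X⦄ (e : W' ⟶ W), R e →
      res (pullM hf G) e m ∈ (ηSub hf G).obj (op W') := by
  let N := pullM hf G
  let P := ηSub hf G
  let c := cokernel.π P.ι
  let F := (PresheafOfModules.sheafification (𝟙 (OEtRing X).obj)).obj (cokernel P.ι)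
  let ν : cokernel P.ι ⟶ F.val :=
    (PresheafOfModules.sheafificationAdjunction (𝟙 (OEtRing X).obj)).unit.app (cokernel P.ι)
  let q : N ⟶ F := (SheafOfModules.fullyFaithfulForget (OEtRing X)).preimage (c ≫ ν)
  have hq₀ : q.val = c ≫ ν := (SheafOfModules.fullyFaithfulForget (OEtRing X)).map_preimage _
  have hc : ∀ (Z : (EtOver X)ᵒᵖ) (x : N.val.obj Z), c.app Z x = 0 ↔ x ∈ P.obj Z := fun Z x => by
    have hex := (ShortComplex.cokernelSequence_exact P.ι).map (PresheafOfModules.evaluation (OEtRing X).obj Z)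
    rw [ShortComplex.moduleCat_exact_iff] at hex
    refine ⟨fun h => ?_, fun h => ?_⟩
    · obtain ⟨y, hy⟩ := hex x h
      rw [← hy]
      exact y.2
    · exact ConcreteCategory.congr_hom
        ((PresheafOfModules.evaluation (OEtRing X).obj Z).congr_map (cokernel.condition P.ι)) (⟨x, h⟩ : P.obj Z)
  have hq : q = 0 := by
    refine ((pullPushAdjModEt hf).homEquiv G F).injective (SheafOfModules.hom_ext (PresheafOfModules.Hom.ext
      (funext fun E' => ModuleCat.hom_ext (LinearMap.ext fun y => ?_))))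
    rw [(pullPushAdjModEt hf).homEquiv_unit, (pullPushAdjModEt hf).homEquiv_unit, Functor.map_zero, comp_zero]
    show q.val.app (op (EtOver.bcObj hf E'.unop)) (η hf G E'.unop y) = 0
    rw [hq₀]
    show ν.app _ (c.app _ _) = _
    exact (congrArg _ ((hc _ _).2 (Submodule.subset_span ⟨E'.unop, 𝟙 _, y, res_id _ _⟩))).trans (map_zero _)
  have h0 : (CategoryTheory.toSheafify (etTop X) (cokernel P.ι).presheaf).app (op W) (c.app (op W) m) = 0 := by
    show ν.app (op W) (c.app (op W) m) = 0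
    exact ConcreteCategory.congr_hom ((PresheafOfModules.evaluation (OEtRing X).obj (op W)).congr_map
      (hq₀.symm.trans (congrArg (fun k => k.val) hq))) m
  refine ⟨_, Presheaf.equalizerSieve_mem (etTop X) (CategoryTheory.toSheafify (etTop X) (cokernel P.ι).presheaf)
    (c.app (op W) m) 0 (by rw [h0, map_zero]), fun W' e he => (hc (op W') _).1 ?_⟩
  rw [res_apply, PresheafOfModules.naturality_apply]
  exact he.trans (map_zero _)

theorem bijective_θ' {Z : EtOver X} [IsAffine Z.obj.left.left] (u : Z ⟶ EtOver.bcObj hf E) :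
    Function.Bijective (θ' hf G u) := by
  refine ⟨injective_θ' hf G u, fun m => ?_⟩
  obtain ⟨R, hR, hspan⟩ := exists_cover_mem hf G Z m
  obtain ⟨ι, _, V, g, hV, hgR, hg⟩ := exists_finite_cover hR
  haveI := hV
  have hloc : ∀ i, ∃ x, θ' hf G (g i ≫ u) x = res (pullM hf G) (g i) m := fun i => by
    suffices H : ∀ w ∈ (ηSub hf G).obj (op (V i)), ∃ x, θ' hf G (g i ≫ u) x = w from H _ (hspan (g i) (hgR i))
    intro w hw
    induction hw using Submodule.span_induction with
    | mem y hy =>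
      obtain ⟨E', k, z, rfl⟩ := hy
      refine ⟨T hf G (EtOver.prodSnd E' E) (kProd hf k (g i ≫ u)) (kProd_snd hf _ _)
        (res G (EtOver.prodFst E' E) z), ?_⟩
      rw [← res_η_eq hf G, η_res, ← res_comp, kProd_fst]
    | zero => exact ⟨0, map_zero _⟩
    | add x y _ _ hx hy =>
      obtain ⟨a, ha⟩ := hx
      obtain ⟨b, hb⟩ := hy
      exact ⟨a + b, by rw [map_add, ha, hb]⟩
    | smul r x _ hx =>
      obtain ⟨a, ha⟩ := hx
      exact ⟨dnR r • a, by rw [θ'_smul, ha]; rfl⟩
  choose x hx using hloc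
  obtain ⟨y, hy⟩ := tn_glue hf G hg (u := u) x fun i j => by
    haveI := isAffine_pullback (g i) (g j)
    refine injective_θ' hf G _ ?_
    rw [← res_θ', ← res_θ', hx, hx, res_congr _ (EtOver.pullback_condition (g i) (g j))]
  refine ⟨y, eq_of_cover (pullM hf G) hg fun i => ?_⟩
  rw [res_θ' hf G (g i) rfl, hy, hx]

end Groth.L09.Pull
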