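import Groth.Agent.L09.Pull.Main
import Groth.Agent.L09.ModEt.Converse
import Groth.Agent.L23.Points

/-!
# Inverse images of quasi-coherent modules are quasi-coherent
-/

universe u

open CategoryTheory CategoryTheory.Limits AlgebraicGeometry Opposite AlgSp TensorProduct

set_option autoImplicit false
set_option linter.style.haveILetI false
set_option backward.isDefEq.respectTransparency false
set_option backward.isDefEq.respectTransparency.types false

noncomputable section

namespace Groth.L09.Pull

open ModEt

variable {S : Scheme.{u}} {X Y : Sp S} {f : X ⟶ Y} (hf : Representable f)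
  [(SheafOfModules.pushforward.{u + 1} (bcRingHom hf)).IsRightAdjoint] (G : ModEt Y) [G.IsQuasicoherent]
  {E : EtOver Y} [IsAffine E.obj.left.left]

/-- On affine objects over a base change, sections of the inverse image commute with base change. -/
theorem bc_pullM {W W' : EtOver X} [IsAffine W.obj.left.left] [IsAffine W'.obj.left.left]
    (u : W ⟶ EtOver.bcObj hf E) (g : W' ⟶ W) : BC (pullM hf G) g := by
  let u' : W' ⟶ EtOver.bcObj hf E := g ≫ u
  let A := Rg hf u
  let B := Rg hf u'
  letI : Algebra A B := (rAlg hf g rfl).toAlgebra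
  haveI : IsScalarTower (Γ₀ E) A B :=
    IsScalarTower.of_algebraMap_eq fun r => ((rAlg hf g rfl).commutes r).symm
  letI : Module A (sectModEt (pullM hf G) W) := secModule (pullM hf G) W
  let e := TensorProduct.AlgebraTensorModule.cancelBaseChange (Γ₀ E) A B B (sectModEt G E)
  let Θ : Tn hf G u ≃ₗ[A] sectModEt (pullM hf G) W :=
    LinearEquiv.ofBijective
      { toFun := θ' hf G u
        map_add' := map_add _
        map_smul' := θ'_smul hf G u } (bijective_θ' hf G u)
  let Φ : B ⊗[A] Tn hf G u ≃ₗ[A] B ⊗[A] sectModEt (pullM hf G) W := Θ.lTensor B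
  have key : ∀ x : B ⊗[A] Tn hf G u, θ (pullM hf G) g (Φ x) = θ' hf G u' (e x) := fun x => by
    induction x using TensorProduct.induction_on with
    | zero => simp only [map_zero]
    | tmul b t =>
      induction t using TensorProduct.induction_on with
      | zero => simp only [TensorProduct.tmul_zero, map_zero]
      | tmul a m =>
        show toΓ hf b • res (pullM hf G) g (θ' hf G u (mkTn hf G u (toΓ hf a) m)) =
          θ' hf G u' (mkTn hf G u' (pb g (toΓ hf a) * toΓ hf b) m)
        rw [res_θ' hf G g (rfl : g ≫ u = u'), tres_mk, ← θ'_smul, smul_mkTn, mul_comm]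
      | add t t' ht ht' => simp only [TensorProduct.tmul_add, map_add, ht, ht']
    | add x y hx hy => simp only [map_add, hx, hy]
  have : Function.Bijective fun x : B ⊗[A] Tn hf G u => θ (pullM hf G) g (Φ x) := by
    rw [funext key]
    exact (bijective_θ' hf G u').comp e.bijective
  exact (Function.Bijective.of_comp_iff _ Φ.bijective).1 this

/-- The inverse image of a quasi-coherent module along a representable morphism is quasi-coherent. -/
theorem isQuasicoherent_pullM (hY : IsAlgSpace Y) : (pullM hf G).IsQuasicoherent := by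
  let ι : Type (u + 1) := Σ' (E : EtOver Y) (W : EtOver X) (_ : W ⟶ EtOver.bcObj hf E),
    IsAffine E.obj.left.left ∧ IsAffine W.obj.left.left
  refine isQuasicoherent_of_bc (pullM hf G) (fun i : ι => i.2.1) (fun Z => ?_) fun i W' _ g => ?_
  · have hex : ∀ z : Z.obj.left.left, ∃ (i : ι) (g : i.2.1 ⟶ Z), z ∈ Set.range g.hom.left.left := by
      intro z
      obtain ⟨E, hE, e, he⟩ := exists_affine_chart hY (Points.map f (Points.ofPt Z.obj.hom z))
      obtain ⟨w, hw, -⟩ := Groth.L23.exists_point_of_isPullback (EtOver.isPullback_bcObj hf E)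
        (x := Points.ofPt Z.obj.hom z) (u := e) he.symm
      obtain ⟨W, hW, g₁, g₂, v, hv, -⟩ := exists_common z w hw.symm
      exact ⟨⟨E, W, g₂, hE, hW⟩, g₁, v, hv⟩
    choose i g hg using hex
    refine (etTop X).superset_covering ?_ (ofArrows_mem_etTop (fun z => (i z).2.1) g fun z => ⟨z, hg z⟩)
    rintro V h hh
    obtain ⟨z, l, rfl⟩ := (Sieve.mem_ofArrows_iff _ _ _).1 hh
    exact ⟨i z, ⟨l⟩⟩
  · haveI := i.2.2.2.1
    haveI := i.2.2.2.2
    exact bc_pullM hf G i.2.2.1 g

end Groth.L09.Pull
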