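import Groth.Agent.L09.Pull.Chart

/-!
# Inverse images along representable etale morphisms are restrictions
-/

universe u

open CategoryTheory CategoryTheory.Limits AlgebraicGeometry Opposite AlgSp

set_option autoImplicit false
set_option linter.style.haveILetI false
set_option backward.isDefEq.respectTransparency false
set_option backward.isDefEq.respectTransparency.types false

noncomputable section

namespace Groth.L09.Pull

open ModEt

variable {S : Scheme.{u}} {X Y : Sp S} {f : X ⟶ Y} (hp : RepWith @Etale f)

theorem pushObj_hom (Z : EtOver X) : (pushObj hp Z).obj.hom = Z.obj.hom ≫ f := rfl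

/-- Composition with an etale morphism on morphisms. -/
def pushMap {Z Z' : EtOver X} (g : Z ⟶ Z') : pushObj hp Z ⟶ pushObj hp Z' :=
  EtOver.homMk g.hom.left (by
    show (yon S).map g.hom.left ≫ Z'.obj.hom ≫ f = Z.obj.hom ≫ f
    rw [← Category.assoc, EtOver.w g])

/-- Composition with an etale morphism. -/
def jFun : EtOver X ⥤ EtOver Y where
  obj := pushObj hp
  map := pushMap hp
  map_id Z := EtOver.hom_ext _ _ rfl
  map_comp g g' := EtOver.hom_ext _ _ rfl

theorem isPullback_jFun {Z₀ Z₁ Z₂ : EtOver X} (g₁ : Z₁ ⟶ Z₀) (g₂ : Z₂ ⟶ Z₀) :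
    IsPullback ((jFun hp).map (EtOver.pullbackFst g₁ g₂)) ((jFun hp).map (EtOver.pullbackSnd g₁ g₂))
      ((jFun hp).map g₁) ((jFun hp).map g₂) := by
  refine IsPullback.of_isLimit' ⟨by rw [← Functor.map_comp, ← Functor.map_comp, EtOver.pullback_condition]⟩
    (PullbackCone.IsLimit.mk _
      (fun s => EtOver.homMk
        (pullback.lift s.fst.hom.left s.snd.hom.left (congrArg (fun k => k.hom.left) s.condition)) ?_)
      (fun s => EtOver.hom_ext _ _ (pullback.lift_fst _ _ _))
      (fun s => EtOver.hom_ext _ _ (pullback.lift_snd _ _ _))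
      (fun s m h₁ h₂ => EtOver.hom_ext _ _ (pullback.hom_ext
        ((congrArg (fun k => k.hom.left) h₁).trans (pullback.lift_fst _ _ _).symm)
        ((congrArg (fun k => k.hom.left) h₂).trans (pullback.lift_snd _ _ _).symm))))
  show (yon S).map _ ≫ ((yon S).map _ ≫ Z₁.obj.hom) ≫ f = s.pt.obj.hom
  simp only [← Category.assoc, ← Functor.map_comp]
  rw [pullback.lift_fst, Category.assoc]
  exact EtOver.w s.fst

theorem preservesPullbacks_jFun : PreservesLimitsOfShape WalkingCospan (jFun hp) where
  preservesLimit {K} := by
    haveI : PreservesLimit (cospan (K.map WalkingCospan.Hom.inl) (K.map WalkingCospan.Hom.inr)) (jFun hp) :=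
      preservesLimit_of_preserves_limit_cone (EtOver.pullbackIsLimit _ _)
        ((isLimitMapConePullbackConeEquiv _ _).symm (isPullback_jFun hp _ _).isLimit)
    exact preservesLimit_of_iso_diagram _ (diagramIsoCospan K).symm

theorem etPre_le_comap_jFun : etPre X ≤ (etPre Y).comap (jFun hp) := by
  intro Z R hR
  obtain ⟨ι, V, g, rfl⟩ := R.exists_eq_ofArrows
  rw [Precoverage.mem_comap_iff, Presieve.map_ofArrows, ofArrows_mem_etPre_iff]
  exact (ofArrows_mem_etPre_iff V g).1 hR

theorem isContinuous_jFun : (jFun hp).IsContinuous (etTop X) (etTop Y) := by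
  haveI := preservesPullbacks_jFun hp
  change (jFun hp).IsContinuous (etPre X).toGrothendieck (etPre Y).toGrothendieck
  exact Functor.isContinuous_toGrothendieck_of_pullbacksPreservedBy _ _ _ (etPre_le_comap_jFun hp)

variable (hrep : Representable f)

/-- The projection, as a morphism of the site of the target. -/
def coun (E : EtOver Y) : pushObj hp (EtOver.bcObj hrep E) ⟶ E :=
  EtOver.homMk (hrep.snd E.obj.hom) (hrep.w E.obj.hom).symm

/-- Composition is left adjoint to base change. -/
def jAdj : jFun hp ⊣ EtOver.bc hrep :=
  Adjunction.mkOfUnitCounit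
    { unit :=
        { app := fun Z => diag hp hrep Z
          naturality := fun Z Z' g => EtOver.hom_ext _ _ (hrep.hom_ext
            ((EtOver.w (g ≫ diag hp hrep Z')).trans
              (EtOver.w (diag hp hrep Z ≫ EtOver.bcMap hrep (pushMap hp g))).symm)
            (by
              show (g.hom.left ≫ (diag hp hrep Z').hom.left) ≫ _ =
                ((diag hp hrep Z).hom.left ≫ (EtOver.bcMap hrep (pushMap hp g)).hom.left) ≫ _
              rw [Category.assoc, Category.assoc, EtOver.bcMap_snd]
              show g.hom.left ≫ hrep.lift _ _ _ ≫ hrep.snd _ = hrep.lift _ _ _ ≫ hrep.snd _ ≫ _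
              rw [← Category.assoc (hrep.lift _ _ _) (hrep.snd _), hrep.lift_snd, hrep.lift_snd]
              exact (Category.comp_id _).trans (Category.id_comp _).symm)) }
      counit :=
        { app := coun hp hrep
          naturality := fun E E' g => EtOver.hom_ext _ _ (EtOver.bcMap_snd hrep g) }
      left_triangle := by
        refine NatTrans.ext (funext fun Z => EtOver.hom_ext _ _ ?_)
        show (diag hp hrep Z).hom.left ≫ _ ≫ hrep.snd _ = _
        exact (congrArg _ (Category.id_comp _)).trans (hrep.lift_snd _ _ _)
      right_triangle := by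
        refine NatTrans.ext (funext fun E => EtOver.hom_ext _ _ (hrep.hom_ext ?_ ?_))
        · exact (EtOver.w (((Functor.whiskerLeft (EtOver.bc hrep) _) ≫ _ ≫
            Functor.whiskerRight _ (EtOver.bc hrep)).app E)).trans (EtOver.w (𝟙 _)).symm
        · show ((diag hp hrep (EtOver.bcObj hrep E)).hom.left ≫ (𝟙 _) ≫
            (EtOver.bcMap hrep (coun hp hrep E)).hom.left) ≫ _ = 𝟙 _ ≫ _
          rw [Category.id_comp, Category.id_comp, Category.assoc, EtOver.bcMap_snd]
          rw [← Category.assoc]
          exact (congrArg (· ≫ (coun hp hrep E).hom.left) (hrep.lift_snd _ _ _)).trans (Category.id_comp _) }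

/-- The structure sheaf restricts to the structure sheaf. -/
def jRingHom : OEtRing X ⟶ (haveI := isContinuous_jFun hp
    ((jFun hp).sheafPushforwardContinuous RingCat.{u + 1} (etTop X) (etTop Y)).obj (OEtRing Y)) :=
  haveI := isContinuous_jFun hp
  ObjectProperty.homMk
    { app := fun Z => 𝟙 _
      naturality := fun _ _ _ => (Category.comp_id _).trans (Category.id_comp _).symm }

/-- Restriction of modules. -/
def restr : ModEt Y ⥤ ModEt X :=
  haveI := isContinuous_jFun hp
  SheafOfModules.pushforward.{u + 1} (jRingHom hp)

/-- Restriction is left adjoint to the direct image. -/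
def restrAdj : restr hp ⊣ pushModEt hrep :=
  haveI := isContinuous_jFun hp
  SheafOfModules.pushforwardPushforwardAdj (jAdj hp hrep) (jRingHom hp) (bcRingHom hrep)
    (by
      ext E : 2
      exact (Category.comp_id _).symm)
    (by
      ext Z : 2
      refine RingCat.hom_ext (RingHom.ext fun r => ULift.ext _ _ ?_)
      exact diag_π hp hrep Z.unop (r : ULift Γ(Z.unop.obj.left.left, ⊤)).down)

include hp in
theorem isRightAdjoint_push : (SheafOfModules.pushforward.{u + 1} (bcRingHom hrep)).IsRightAdjoint :=
  (restrAdj hp hrep).isRightAdjoint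

/-- The inverse image along a representable etale morphism is restriction. -/
def pullIso [(SheafOfModules.pushforward.{u + 1} (bcRingHom hrep)).IsRightAdjoint] :
    pullModEt hrep ≅ restr hp :=
  (pullPushAdjModEt hrep).leftAdjointUniq (restrAdj hp hrep)

theorem preservesFiniteLimits_restr : PreservesFiniteLimits (restr hp) := by
  haveI := isContinuous_jFun hp
  have h1 : PreservesFiniteLimits (restr hp ⋙ SheafOfModules.toSheaf.{u + 1} _) := by
    change PreservesFiniteLimits (SheafOfModules.toSheaf.{u + 1} _ ⋙
      (jFun hp).sheafPushforwardContinuous AddCommGrpCat.{u + 1} (etTop X) (etTop Y))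
    infer_instance
  have h2 : ReflectsFiniteLimits (SheafOfModules.toSheaf.{u + 1} (OEtRing X)) := inferInstance
  exact preservesFiniteLimits_of_reflects_of_preserves (restr hp) (SheafOfModules.toSheaf.{u + 1} _)

end Groth.L09.Pull
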