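import Groth.Agent.L09.Pull.Alg
import Groth.Agent.L09.ModEt.WeakAss
import Groth.Prelude.Def_AlgSpOX2

/-!
# Sections of a base change of a quasi-coherent module: candidates
-/

universe u

open CategoryTheory CategoryTheory.Limits AlgebraicGeometry Opposite AlgSp TensorProduct

set_option autoImplicit false
set_option linter.style.haveILetI false
set_option backward.isDefEq.respectTransparency false
set_option backward.isDefEq.respectTransparency.types false

noncomputable section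

namespace Groth.L09.Pull

open ModEt

variable {S : Scheme.{u}} {X Y : Sp S} {f : X ⟶ Y} (hf : Representable f)

/-- Functions pulled back along the projection of a base change. -/
abbrev π₀ (E : EtOver Y) : Γ₀ E →+* Γ₀ (EtOver.bcObj hf E) := (EtOver.bcπ hf E).left.appTop.hom

theorem π₀_nat {E E' : EtOver Y} (g : E' ⟶ E) (r : Γ₀ E) :
    pb (EtOver.bcMap hf g) (π₀ hf E r) = π₀ hf E' (pb g r) := by
  have h : (EtOver.bcMap hf g).hom.left.left ≫ (EtOver.bcπ hf E).left =
      (EtOver.bcπ hf E').left ≫ g.hom.left.left := (EtOver.isPullback_bcMap_left hf g).w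
  exact DFunLike.congr_fun (congrArg CommRingCat.Hom.hom (congrArg Scheme.Hom.appTop h)) r

theorem bcMap_comp {E E' E'' : EtOver Y} (g : E'' ⟶ E') (g' : E' ⟶ E) :
    EtOver.bcMap hf (g ≫ g') = EtOver.bcMap hf g ≫ EtOver.bcMap hf g' := (EtOver.bc hf).map_comp g g'

theorem bcMap_id (E : EtOver Y) : EtOver.bcMap hf (𝟙 E) = 𝟙 _ := (EtOver.bc hf).map_id E

theorem isCover_bc {E : EtOver Y} {ι : Type*} {V : ι → EtOver Y} {c : ∀ i, V i ⟶ E} (hc : IsCover c) :
    IsCover (fun i => EtOver.bcMap hf (c i)) := fun w => by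
  obtain ⟨i, v, hv⟩ := hc ((EtOver.bcπ hf E).left w)
  obtain ⟨w', hw', -⟩ := Scheme.exists_preimage_of_isPullback (EtOver.isPullback_bcMap_left hf (c i)) w v hv.symm
  exact ⟨i, w', hw'⟩

/-- The affine opens of an object cover it. -/
theorem isCover_affineOpens {X' : Sp S} (E : EtOver X') :
    IsCover (fun B : E.obj.left.left.affineOpens => openι E B.1) := fun x => by
  obtain ⟨_, ⟨(B : E.obj.left.left.Opens), hB, rfl⟩, hxB, -⟩ :=
    E.obj.left.left.isBasis_affineOpens.exists_subset_of_mem_open (Set.mem_univ x) isOpen_univ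
  exact ⟨⟨B, hB⟩, ⟨x, hxB⟩, rfl⟩

/-- An object of the source over a base change factors locally through base changes of affine objects. -/
theorem exists_lift_affine {Z : EtOver X} [IsAffine Z.obj.left.left] {Q : EtOver Y} (k : Z ⟶ EtOver.bcObj hf Q) :
    ∃ (ι : Type u) (_ : Finite ι) (V : ι → EtOver X) (g : ∀ i, V i ⟶ Z) (P : ι → EtOver Y) (c : ∀ i, P i ⟶ Q)
      (k' : ∀ i, V i ⟶ EtOver.bcObj hf (P i)), IsCover g ∧ (∀ i, IsAffine (V i).obj.left.left) ∧
      (∀ i, IsAffine (P i).obj.left.left) ∧ ∀ i, k' i ≫ EtOver.bcMap hf (c i) = g i ≫ k := by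
  let c := fun B : Q.obj.left.left.affineOpens => EtOver.bcMap hf (openι Q B.1)
  obtain ⟨ι, hι, V, g, hV, hR, hg⟩ := exists_finite_cover (E := Z)
    (ofArrows_mem_etTop _ _ ((isCover_bc hf (isCover_affineOpens Q)).pullback k))
  choose B e he using fun i => (Sieve.mem_ofArrows_iff _ _ _).1 (hR i)
  refine ⟨ι, hι, V, g, fun i => openObj Q (B i).1, fun i => openι Q (B i).1,
    fun i => e i ≫ EtOver.pullbackSnd k (c (B i)), hg, hV, fun i => (B i).2, fun i => ?_⟩
  rw [he i, Category.assoc, Category.assoc, EtOver.pullback_condition]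

variable {E : EtOver Y}

/-- The functions on an object over a base change, as an algebra over the functions downstairs. -/
def Rg {Z : EtOver X} (_u : Z ⟶ EtOver.bcObj hf E) : Type u := Γ₀ Z

instance {Z : EtOver X} (u : Z ⟶ EtOver.bcObj hf E) : CommRing (Rg hf u) := inferInstanceAs (CommRing (Γ₀ Z))

instance {Z : EtOver X} (u : Z ⟶ EtOver.bcObj hf E) : Algebra (Γ₀ E) (Rg hf u) :=
  ((pb u).comp (π₀ hf E)).toAlgebra

variable (G : ModEt Y)

/-- The base change of the sections of `G` over `E` to an object over the base change of `E`. -/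
abbrev Tn {Z : EtOver X} (u : Z ⟶ EtOver.bcObj hf E) : Type (u + 1) := Rg hf u ⊗[Γ₀ E] sectModEt G E

instance tnModule {Z : EtOver X} (u : Z ⟶ EtOver.bcObj hf E) : Module (Γ₀ Z) (Tn hf G u) :=
  inferInstanceAs (Module (Rg hf u) (Rg hf u ⊗[Γ₀ E] sectModEt G E))

/-- A pure tensor. -/
abbrev mkTn {Z : EtOver X} (u : Z ⟶ EtOver.bcObj hf E) (b : Γ₀ Z) (m : sectModEt G E) : Tn hf G u :=
  (b : Rg hf u) ⊗ₜ m

theorem smul_mkTn {Z : EtOver X} (u : Z ⟶ EtOver.bcObj hf E) (a b : Γ₀ Z) (m : sectModEt G E) :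
    a • mkTn hf G u b m = mkTn hf G u (a * b) m := rfl

theorem tn_ext {Z : EtOver X} {u : Z ⟶ EtOver.bcObj hf E} {A : Type*} [AddCommMonoid A] {φ ψ : Tn hf G u →+ A}
    (h : ∀ b m, φ (mkTn hf G u b m) = ψ (mkTn hf G u b m)) : φ = ψ := by
  ext x
  induction x using TensorProduct.induction_on with
  | zero => simp
  | tmul b m => exact h b m
  | add x y hx hy => simp only [map_add, hx, hy]

/-- Restriction of algebras of functions. -/
def rAlg {Z Z' : EtOver X} (z : Z' ⟶ Z) {u : Z ⟶ EtOver.bcObj hf E} {u' : Z' ⟶ EtOver.bcObj hf E}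
    (h : z ≫ u = u') : Rg hf u →ₐ[Γ₀ E] Rg hf u' :=
  { (pb z : Γ₀ Z →+* Γ₀ Z') with
    commutes' := fun r => by subst h; rfl }

/-- Restriction. -/
def tres {Z Z' : EtOver X} (z : Z' ⟶ Z) {u : Z ⟶ EtOver.bcObj hf E} {u' : Z' ⟶ EtOver.bcObj hf E}
    (h : z ≫ u = u') : Tn hf G u →+ Tn hf G u' :=
  (LinearMap.rTensor (sectModEt G E) (rAlg hf z h).toLinearMap).toAddMonoidHom

@[simp]
theorem tres_mk {Z Z' : EtOver X} (z : Z' ⟶ Z) {u : Z ⟶ EtOver.bcObj hf E} {u' : Z' ⟶ EtOver.bcObj hf E}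
    (h : z ≫ u = u') (b : Γ₀ Z) (m : sectModEt G E) :
    tres hf G z h (mkTn hf G u b m) = mkTn hf G u' (pb z b) m := rfl

theorem tres_smul {Z Z' : EtOver X} (z : Z' ⟶ Z) {u : Z ⟶ EtOver.bcObj hf E} {u' : Z' ⟶ EtOver.bcObj hf E}
    (h : z ≫ u = u') (a : Γ₀ Z) (x : Tn hf G u) : tres hf G z h (a • x) = pb z a • tres hf G z h x := by
  induction x using TensorProduct.induction_on with
  | zero => simp
  | tmul b m =>
    show tres hf G z h (a • mkTn hf G u b m) = pb z a • tres hf G z h (mkTn hf G u b m)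
    rw [smul_mkTn, tres_mk, tres_mk, smul_mkTn, map_mul]
  | add x y hx hy => simp only [smul_add, map_add, hx, hy]

theorem tres_comp {Z Z' Z'' : EtOver X} (z' : Z'' ⟶ Z') (z : Z' ⟶ Z) {u : Z ⟶ EtOver.bcObj hf E}
    {u' : Z' ⟶ EtOver.bcObj hf E} {u'' : Z'' ⟶ EtOver.bcObj hf E} (h : z ≫ u = u') (h' : z' ≫ u' = u'')
    (x : Tn hf G u) :
    tres hf G z' h' (tres hf G z h x) = tres hf G (z' ≫ z) (by rw [Category.assoc, h, h']) x := by
  induction x using TensorProduct.induction_on with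
  | zero => simp
  | tmul b m => rfl
  | add x y hx hy => simp only [map_add, hx, hy]

theorem tres_congr {Z Z' : EtOver X} {z₁ z₂ : Z' ⟶ Z} (e : z₁ = z₂) {u : Z ⟶ EtOver.bcObj hf E}
    {u' : Z' ⟶ EtOver.bcObj hf E} (h : z₁ ≫ u = u') (x : Tn hf G u) :
    tres hf G z₁ h x = tres hf G z₂ (e ▸ h) x := by
  subst e; rfl

theorem tres_id {Z : EtOver X} {u : Z ⟶ EtOver.bcObj hf E} (x : Tn hf G u) :
    tres hf G (𝟙 Z) (Category.id_comp u) x = x := by
  induction x using TensorProduct.induction_on with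
  | zero => simp
  | tmul b m =>
    refine (tres_mk hf G (𝟙 Z) _ b m).trans ?_
    rw [pb_id]
  | add x y hx hy => simp only [map_add, hx, hy]

section Cover

variable {Z : EtOver X} [IsAffine Z.obj.left.left] {ι : Type u} [Finite ι] {V : ι → EtOver X}
  [∀ k, IsAffine (V k).obj.left.left] {g : ∀ k, V k ⟶ Z}

theorem faithfullyFlat_pi (hg : IsCover g) :
    letI := fun k => (pb (g k)).toAlgebra
    Module.FaithfullyFlat (Γ₀ Z) (Π k, Γ₀ (V k)) := by
  letI := fun k => (pb (g k)).toAlgebra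
  let d := sigmaDesc V g
  letI := (pb d).toAlgebra
  haveI : Module.FaithfullyFlat (Γ₀ Z) (Γ₀ (sigmaObj V g)) :=
    Data.faithfullyFlat_pb d (surjective_sigmaDesc V g hg)
  let φ : Γ₀ (sigmaObj V g) →ₗ[Γ₀ Z] Π k, Γ₀ (V k) :=
    { toFun := fun a k => pb (sigmaι V g k) a
      map_add' := fun a b => funext fun k => map_add _ a b
      map_smul' := fun r a => funext fun k => by
        show pb (sigmaι V g k) (pb d r * a) = pb (g k) r * pb (sigmaι V g k) a
        rw [map_mul, ← pb_comp, sigmaι_desc] }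
  have hφ : Function.Bijective φ :=
    ⟨fun a b h => eq_fun_of_cover (isCover_sigmaι V g) (congrFun h), fun t => by
      obtain ⟨a, ha⟩ := exists_glue_fun V g t
      exact ⟨a, funext ha⟩⟩
  exact Module.FaithfullyFlat.of_linearEquiv _ _ (LinearEquiv.ofBijective φ hφ).symm

/-- Base changed sections are separated for covers. -/
theorem tn_separated (hg : IsCover g) {u : Z ⟶ EtOver.bcObj hf E} {x : Tn hf G u}
    (h : ∀ k, tres hf G (g k) (rfl : g k ≫ u = _) x = 0) : x = 0 := by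
  letI : ∀ k, Algebra (Rg hf u) (Rg hf (g k ≫ u)) := fun k => (rAlg hf (g k) rfl).toAlgebra
  haveI : ∀ k, IsScalarTower (Γ₀ E) (Rg hf u) (Rg hf (g k ≫ u)) := fun k =>
    IsScalarTower.of_algebraMap_eq fun r => ((rAlg hf (g k) rfl).commutes r).symm
  haveI : Module.FaithfullyFlat (Rg hf u) (Π k, Rg hf (g k ≫ u)) := faithfullyFlat_pi hg
  exact separated_baseChange (A := Rg hf u) (fun k => Rg hf (g k ≫ u)) h

omit [Finite ι] in
theorem exists_split (k l : ι) :
    letI := (pb (g k)).toAlgebra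
    letI := (pb (g l)).toAlgebra
    ∃ ψ : Γ₀ (EtOver.pullbackObj (g k) (g l)) →+* Γ₀ (V k) ⊗[Γ₀ Z] Γ₀ (V l),
      (∀ b, ψ (pb (EtOver.pullbackFst (g k) (g l)) b) = b ⊗ₜ 1) ∧
        ∀ b, ψ (pb (EtOver.pullbackSnd (g k) (g l)) b) = 1 ⊗ₜ b := by
  letI := (pb (g k)).toAlgebra
  letI := (pb (g l)).toAlgebra
  have hp := isPushout_pb (g k) (g l)
  let ψ : Γ₀ (EtOver.pullbackObj (g k) (g l)) ⟶ CommRingCat.of (Γ₀ (V k) ⊗[Γ₀ Z] Γ₀ (V l)) :=
    hp.desc (CommRingCat.ofHom Algebra.TensorProduct.includeLeftRingHom)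
      (CommRingCat.ofHom Algebra.TensorProduct.includeRight.toRingHom)
      (CommRingCat.hom_ext (RingHom.ext fun r => by
        exact (Algebra.TensorProduct.algebraMap_apply r).symm.trans (Algebra.TensorProduct.algebraMap_apply' r)))
  exact ⟨ψ.hom, fun b => DFunLike.congr_fun (congrArg CommRingCat.Hom.hom (hp.inl_desc _ _ _)) b,
    fun b => DFunLike.congr_fun (congrArg CommRingCat.Hom.hom (hp.inr_desc _ _ _)) b⟩

/-- Base changed sections glue along covers. -/
theorem tn_glue (hg : IsCover g) {u : Z ⟶ EtOver.bcObj hf E} (x : Π k, Tn hf G (g k ≫ u))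
    (h : ∀ k l, tres hf G (EtOver.pullbackFst (g k) (g l)) rfl (x k) =
      tres hf G (EtOver.pullbackSnd (g k) (g l))
        (by rw [← Category.assoc, ← EtOver.pullback_condition, Category.assoc]) (x l)) :
    ∃ y : Tn hf G u, ∀ k, tres hf G (g k) rfl y = x k := by
  letI : ∀ k, Algebra (Rg hf u) (Rg hf (g k ≫ u)) := fun k => (rAlg hf (g k) rfl).toAlgebra
  haveI : ∀ k, IsScalarTower (Γ₀ E) (Rg hf u) (Rg hf (g k ≫ u)) := fun k =>
    IsScalarTower.of_algebraMap_eq fun r => ((rAlg hf (g k) rfl).commutes r).symm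
  haveI : Module.FaithfullyFlat (Rg hf u) (Π k, Rg hf (g k ≫ u)) := faithfullyFlat_pi hg
  choose ψ hψ₁ hψ₂ using fun k l => exists_split (g := g) k l
  exact glue_baseChange (A := Rg hf u) (fun k => Rg hf (g k ≫ u))
    (fun k l => rAlg hf (EtOver.pullbackFst (g k) (g l)) (rfl : _ = EtOver.pullbackFst (g k) (g l) ≫ g k ≫ u))
    (fun k l => rAlg hf (EtOver.pullbackSnd (g k) (g l))
      (by rw [← Category.assoc, ← EtOver.pullback_condition, Category.assoc]))
    ψ hψ₁ hψ₂ x h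

end Cover

end Groth.L09.Pull
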