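import Groth.Agent.L09.ModEt.Algebra

/-!
# Descent of elements of a module along a finite family of algebras
-/

universe u v

open TensorProduct

set_option autoImplicit false

noncomputable section

namespace Groth.L09.Pull

variable {A : Type u} [CommRing A] {ι : Type u} [Finite ι] (S : ι → Type u) [∀ k, CommRing (S k)]
  [∀ k, Algebra A (S k)] [Module.FaithfullyFlat A (Π k, S k)] {Q : Type v} [AddCommGroup Q] [Module A Q]

/-- An element killed by every member of a faithfully flat finite family is zero. -/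
theorem separated_pi {q : Q} (h : ∀ k, (1 : S k) ⊗ₜ[A] q = 0) : q = 0 := by
  classical
  cases nonempty_fintype ι
  refine Module.FaithfullyFlat.tensorProduct_mk_injective (A := A) (B := Π k, S k) Q ?_
  rw [map_zero]
  refine (TensorProduct.piLeft A Q S).injective (funext fun k => ?_)
  simpa using h k

/-- Elements agreeing on overlaps descend along a faithfully flat finite family. -/
theorem glue_pi (x : Π k, S k ⊗[A] Q)
    (h : ∀ k l, (1 : S k) ⊗ₜ[A] x l = LinearMap.lTensor (S k) (TensorProduct.mk A (S l) Q 1) (x k)) :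
    ∃ q : Q, ∀ k, (1 : S k) ⊗ₜ q = x k := by
  classical
  cases nonempty_fintype ι
  let e₁ : (Π k, S k) ⊗[A] Q ≃ₗ[A] Π k, S k ⊗[A] Q := TensorProduct.piLeft A Q S
  have he₁ : ∀ (s : Π k, S k) (q : Q) k, e₁ (s ⊗ₜ q) k = s k ⊗ₜ q := fun s q k => by simp [e₁]
  let e₂ : (Π k, S k) ⊗[A] ((Π k, S k) ⊗[A] Q) ≃ₗ[A] Π k, Π l, S k ⊗[A] (S l ⊗[A] Q) :=
    (TensorProduct.piLeft A _ S).trans (LinearEquiv.piCongrRight fun k =>
      (TensorProduct.congr (LinearEquiv.refl A (S k)) e₁).trans
        (TensorProduct.piRight A A (S k) fun l => S l ⊗[A] Q))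
  have he₂ : ∀ (s : Π k, S k) (z : (Π k, S k) ⊗[A] Q) k l, e₂ (s ⊗ₜ z) k l = s k ⊗ₜ e₁ z l := fun s z k l => by
    simp [e₂]
  have key : ∀ (z : (Π k, S k) ⊗[A] Q) k l,
      LinearMap.lTensor (S k) (TensorProduct.mk A (S l) Q 1) (e₁ z k) =
        e₂ (LinearMap.lTensor (Π k, S k) (TensorProduct.mk A (Π k, S k) Q 1) z) k l := fun z k l => by
    induction z using TensorProduct.induction_on with
    | zero => simp
    | tmul s q => simp [he₁, he₂]
    | add z z' hz hz' => simp only [map_add, Pi.add_apply, hz, hz']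
  have hx : (1 : Π k, S k) ⊗ₜ[A] e₁.symm x =
      LinearMap.lTensor (Π k, S k) (TensorProduct.mk A (Π k, S k) Q 1) (e₁.symm x) :=
    e₂.injective (funext fun k => funext fun l => by
      rw [← key, he₂, Pi.one_apply, LinearEquiv.apply_symm_apply, h k l])
  obtain ⟨q, hq⟩ := ModEt.exists_eq_one_tmul (A := A) (S := Π k, S k) (e₁.symm x) hx
  refine ⟨q, fun k => ?_⟩
  have hk := congrFun (congrArg e₁ hq) k
  rwa [he₁, Pi.one_apply, LinearEquiv.apply_symm_apply] at hk

section BaseChange

variable {R : Type u} [CommRing R] [Algebra R A] [∀ k, Algebra R (S k)] [∀ k, IsScalarTower R A (S k)]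
  {M : Type v} [AddCommGroup M] [Module R M]

theorem separated_baseChange {y : A ⊗[R] M}
    (h : ∀ k, LinearMap.rTensor M (IsScalarTower.toAlgHom R A (S k)).toLinearMap y = 0) : y = 0 := by
  refine separated_pi (A := A) S fun k => ?_
  let e := TensorProduct.AlgebraTensorModule.cancelBaseChange R A (S k) (S k) M
  have he : ∀ z : A ⊗[R] M,
      e ((1 : S k) ⊗ₜ z) = LinearMap.rTensor M (IsScalarTower.toAlgHom R A (S k)).toLinearMap z := fun z => by
    induction z using TensorProduct.induction_on with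
    | zero => simp
    | tmul b m => simp [e, Algebra.smul_def]
    | add z z' hz hz' => simp only [TensorProduct.tmul_add, map_add, hz, hz']
  exact e.injective (((he y).trans (h k)).trans e.map_zero.symm)

variable {T : ι → ι → Type u} [∀ k l, CommRing (T k l)] [∀ k l, Algebra R (T k l)]

theorem glue_baseChange (p : ∀ k l, S k →ₐ[R] T k l) (q : ∀ k l, S l →ₐ[R] T k l)
    (ψ : ∀ k l, T k l →+* S k ⊗[A] S l) (hp : ∀ k l b, ψ k l (p k l b) = b ⊗ₜ 1)
    (hq : ∀ k l b, ψ k l (q k l b) = 1 ⊗ₜ b) (x : Π k, S k ⊗[R] M)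
    (h : ∀ k l, LinearMap.rTensor M (p k l).toLinearMap (x k) = LinearMap.rTensor M (q k l).toLinearMap (x l)) :
    ∃ y : A ⊗[R] M, ∀ k, LinearMap.rTensor M (IsScalarTower.toAlgHom R A (S k)).toLinearMap y = x k := by
  let e := fun k => TensorProduct.AlgebraTensorModule.cancelBaseChange R A (S k) (S k) M
  obtain ⟨y, hy⟩ := glue_pi S (Q := A ⊗[R] M) (fun k => (e k).symm (x k)) fun k l => by
    let α := TensorProduct.assoc A (S k) (S l) (A ⊗[R] M)
    let β : T k l → M → S k ⊗[A] (S l ⊗[A] (A ⊗[R] M)) := fun b m => α (ψ k l b ⊗ₜ ((1 : A) ⊗ₜ m))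
    let Ψ : T k l ⊗[R] M →+ S k ⊗[A] (S l ⊗[A] (A ⊗[R] M)) :=
      TensorProduct.liftAddHom
        (AddMonoidHom.mk' (fun b => AddMonoidHom.mk' (β b) fun m m' => by
            simp only [β, TensorProduct.tmul_add, map_add])
          fun b b' => AddMonoidHom.ext fun m => by
            show α (ψ k l (b + b') ⊗ₜ _) = _
            rw [map_add, TensorProduct.add_tmul, map_add]
            rfl)
        fun r b m => by
          show α (ψ k l (r • b) ⊗ₜ _) = α (ψ k l b ⊗ₜ ((1 : A) ⊗ₜ (r • m)))
          congr 1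
          have hr : ψ k l (algebraMap R (T k l) r) = algebraMap A (S k ⊗[A] S l) (algebraMap R A r) := by
            rw [← (p k l).commutes, hp, IsScalarTower.algebraMap_apply R A (S k),
              Algebra.TensorProduct.algebraMap_apply]
          rw [Algebra.smul_def, map_mul, hr, ← Algebra.smul_def, TensorProduct.smul_tmul]
          congr 1
          rw [TensorProduct.smul_tmul', smul_eq_mul, mul_one, Algebra.algebraMap_eq_smul_one,
            TensorProduct.smul_tmul]
    have hΨ₁ : ∀ z, Ψ (LinearMap.rTensor M (p k l).toLinearMap z) =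
        LinearMap.lTensor (S k) (TensorProduct.mk A (S l) (A ⊗[R] M) 1) ((e k).symm z) := fun z => by
      induction z using TensorProduct.induction_on with
      | zero => simp
      | tmul b m => simp [Ψ, β, α, e, hp]
      | add z z' hz hz' => simp only [map_add, hz, hz']
    have hΨ₂ : ∀ z, Ψ (LinearMap.rTensor M (q k l).toLinearMap z) = (1 : S k) ⊗ₜ (e l).symm z := fun z => by
      induction z using TensorProduct.induction_on with
      | zero => simp
      | tmul b m => simp [Ψ, β, α, e, hq]
      | add z z' hz hz' => simp only [map_add, TensorProduct.tmul_add, hz, hz']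
    rw [← hΨ₁, h k l, hΨ₂]
  refine ⟨y, fun k => ?_⟩
  have hk : ∀ z : A ⊗[R] M,
      e k ((1 : S k) ⊗ₜ z) = LinearMap.rTensor M (IsScalarTower.toAlgHom R A (S k)).toLinearMap z := fun z => by
    induction z using TensorProduct.induction_on with
    | zero => simp
    | tmul b m => simp [e, Algebra.smul_def]
    | add z z' hz hz' => simp only [TensorProduct.tmul_add, map_add, hz, hz']
  rw [← hk y, hy k, LinearEquiv.apply_symm_apply]

end BaseChange

end Groth.L09.Pull
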