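import Groth.Agent.L09.Pull.Qcoh
import Groth.Prelude.Def_AlgSpD
import Groth.Prelude.Def_AlgSpModX

/-!
# Restriction of quasi-coherent modules to charts and their Zariski companions
-/

universe u

open CategoryTheory CategoryTheory.Limits AlgebraicGeometry Opposite AlgSp TensorProduct

set_option autoImplicit false
set_option linter.style.haveILetI false
set_option backward.isDefEq.respectTransparency false
set_option backward.isDefEq.respectTransparency.types false

noncomputable section

namespace Groth.L09.Pull

open ModEt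

variable {S : Scheme.{u}} {X : Sp S}

section Push

variable {W : Sp S} {p : W ⟶ X} (hp : RepWith @Etale p)

/-- An etale object over the source, over the target. -/
def pushObj (Z : EtOver W) : EtOver X :=
  EtOver.mk (U := Z.obj.left) (Z.obj.hom ≫ p)
    ((repWith_isMultiplicative (S := S) @Etale).comp_mem _ _ Z.property hp)

instance pushModule (F : ModEt X) (Z : EtOver W) : Module (Γ₀ Z) (sectModEt F (pushObj hp Z)) :=
  secModule F (pushObj hp Z)

variable (hrep : Representable p)

/-- The diagonal into the base change. -/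
def diag (Z : EtOver W) : Z ⟶ EtOver.bcObj hrep (pushObj hp Z) :=
  EtOver.homMk (hrep.lift Z.obj.hom (𝟙 _) (by rw [CategoryTheory.Functor.map_id, Category.id_comp]; rfl))
    (hrep.lift_fst _ _ _)

theorem diag_π (Z : EtOver W) (r : Γ₀ (pushObj hp Z)) :
    pb (diag hp hrep Z) (π₀ hrep (pushObj hp Z) r) = r := by
  have h : (diag hp hrep Z).hom.left.left ≫ (EtOver.bcπ hrep (pushObj hp Z)).left = 𝟙 _ :=
    congrArg (fun k => k.left) (hrep.lift_snd Z.obj.hom (𝟙 _) (by rw [CategoryTheory.Functor.map_id, Category.id_comp]; rfl))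
  refine (DFunLike.congr_fun (congrArg CommRingCat.Hom.hom (congrArg Scheme.Hom.appTop h)) r).trans ?_
  simp [Scheme.Hom.id_app]
  rfl

variable [(SheafOfModules.pushforward.{u + 1} (bcRingHom hrep)).IsRightAdjoint] (F : ModEt X)

/-- Sections over an etale object of the source, restricted. -/
def resPush (Z : EtOver W) : sectModEt F (pushObj hp Z) →+ sectModEt (pullM hrep F) Z :=
  (res (pullM hrep F) (diag hp hrep Z)).comp (η hrep F (pushObj hp Z))

theorem resPush_smul (Z : EtOver W) (r : Γ₀ Z) (m : sectModEt F (pushObj hp Z)) :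
    resPush hp hrep F Z (r • m) = r • resPush hp hrep F Z m := by
  show res (pullM hrep F) (diag hp hrep Z) (η hrep F _ (show sectModEt F (pushObj hp Z) from
    (show Γ₀ (pushObj hp Z) from r) • m)) = _
  rw [η_smul, res_smul, diag_π]
  rfl

theorem bijective_resPush [F.IsQuasicoherent] (Z : EtOver W) [IsAffine Z.obj.left.left] :
    Function.Bijective (resPush hp hrep F Z) := by
  haveI : IsAffine (pushObj hp Z).obj.left.left := ‹IsAffine Z.obj.left.left›
  let u := diag hp hrep Z
  have halg : ∀ r : Γ₀ (pushObj hp Z), toΓ hrep (algebraMap (Γ₀ (pushObj hp Z)) (Rg hrep u) r) = r :=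
    diag_π hp hrep Z
  let v : Tn hrep F u →+ sectModEt F (pushObj hp Z) :=
    TensorProduct.liftAddHom
      (AddMonoidHom.mk' (fun b => DistribSMul.toAddMonoidHom _ (toΓ hrep b))
        fun b b' => AddMonoidHom.ext fun m => add_smul (toΓ hrep b) (toΓ hrep b') m)
      fun r b m => by
        show (toΓ hrep (algebraMap (Γ₀ (pushObj hp Z)) (Rg hrep u) r) * toΓ hrep b : Γ₀ Z) • m =
          toΓ hrep b • (show Γ₀ Z from r) • m
        rw [halg, smul_smul, mul_comm]
  have hv : ∀ x, resPush hp hrep F Z (v x) = θ' hrep F u x := fun x => by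
    induction x using TensorProduct.induction_on with
    | zero => simp
    | tmul b m => exact resPush_smul hp hrep F Z (toΓ hrep b) m
    | add x y hx hy => simp only [map_add, hx, hy]
  have hv1 : ∀ m, θ' hrep F u (mkTn hrep F u 1 m) = resPush hp hrep F Z m := fun m => by
    rw [θ'_mk, one_smul]
    rfl
  refine ⟨fun m m' h => ?_, fun y => ?_⟩
  · rw [← hv1, ← hv1] at h
    have := congrArg v ((bijective_θ' hrep F u).1 h)
    exact (one_smul (Γ₀ (pushObj hp Z)) m).symm.trans (this.trans (one_smul _ m'))
  · obtain ⟨x, rfl⟩ := (bijective_θ' hrep F u).2 y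
    exact ⟨v x, hv x⟩

/-- Restriction to a chart, as a linear equivalence. -/
def resPushEquiv [F.IsQuasicoherent] (Z : EtOver W) [IsAffine Z.obj.left.left] :
    sectModEt F (pushObj hp Z) ≃ₗ[Γ₀ Z] sectModEt (pullM hrep F) Z :=
  LinearEquiv.ofBijective
    { toFun := resPush hp hrep F Z
      map_add' := map_add _
      map_smul' := fun r m => resPush_smul hp hrep F Z r m } (bijective_resPush hp hrep F Z)

end Push

section Companion

variable {U : Over S} (M : ModEt ((yon S).obj U)) {H : U.left.Modules}

/-- An open of a chart as an object of its site. -/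
abbrev openEt (U : Over S) (W : U.left.Opens) : EtOver ((yon S).obj U) :=
  (EtOver.ofScheme U).obj (etaleOfOpen U.left W)

theorem exists_zariski (c : ZarCompanion U.left H ((resSchModEt U).obj M)) (W : U.left.Opens) :
    ∃ (N : Type u) (_ : AddCommGroup N) (_ : Module (Γ₀ (openEt U W)) N)
      (_ : N ≃ₗ[Γ₀ (openEt U W)] sectModEt M (openEt U W)),
      Module.Projective (U.left.ringCatSheaf.obj.obj (op W)) (H.val.obj (op W)) ↔
        Module.Projective (Γ₀ (openEt U W)) N := by
  let e : Γ₀ (openEt U W) ≃+* Γ(U.left, W) := W.topIso.commRingCatIsoToRingEquiv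
  let A : Type u := H.val.obj (op W)
  letI modA : Module Γ(U.left, W) A := inferInstanceAs (Module (U.left.ringCatSheaf.obj.obj (op W)) (H.val.obj (op W)))
  letI : Module (Γ₀ (openEt U W)) A := Module.compHom A e.toRingHom
  let φ : sectModEt M (openEt U W) ≃+ A := (c.iso W).trans AddEquiv.ulift
  have hφ : ∀ (r : Γ₀ (openEt U W)) (m : sectModEt M (openEt U W)), φ (r • m) = r • φ m := fun r m => by
    show (c.iso W (upΓ (openEt U W) r • m)).down = e r • (c.iso W m).down
    have h := congrArg ULift.down (c.map_smul W (e r) m)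
    refine Eq.trans ?_ h
    congr 1
    congr 1
    show upΓ (openEt U W) r • m = upΓ (openEt U W) (W.topIso.inv (e r)) • m
    rw [show W.topIso.inv (e r) = r from W.topIso.hom_inv_id_apply r]
  let L : A ≃ₗ[Γ₀ (openEt U W)] sectModEt M (openEt U W) :=
    { φ.symm with
      map_smul' := fun r a => by
        apply φ.injective
        show φ (φ.symm (r • a)) = φ (r • φ.symm a)
        rw [hφ, φ.apply_symm_apply, φ.apply_symm_apply] }
  refine ⟨A, inferInstance, inferInstance, L, ?_⟩
  letI : RingHomInvPair (e.toRingHom) (e.symm.toRingHom) := RingHomInvPair.of_ringEquiv e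
  letI : RingHomInvPair (e.symm.toRingHom) (e.toRingHom) := RingHomInvPair.symm _ _
  let σ : A ≃ₛₗ[e.toRingHom] A := { AddEquiv.refl A with map_smul' := fun r a => rfl }
  exact ⟨fun h => by haveI : Module.Projective Γ(U.left, W) A := h; exact Module.Projective.of_equiv σ.symm,
    fun h => Module.Projective.of_equiv σ⟩

end Companion

end Groth.L09.Pull
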