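import Groth.Agent.L09.Pull.EtaleAdj
import Groth.Agent.L23.Points

/-!
# Quasi-coherence is local for etale surjective charts
-/

universe u

open CategoryTheory CategoryTheory.Limits AlgebraicGeometry Opposite AlgSp TensorProduct

set_option autoImplicit false
set_option linter.style.haveILetI false
set_option backward.isDefEq.respectTransparency false
set_option backward.isDefEq.respectTransparency.types false

noncomputable section

namespace Groth.L09.Pull

open ModEt

variable {S : Scheme.{u}} {X : Sp S}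

theorem res_bijective (F : ModEt X) {E E' : EtOver X} (i : E' ⟶ E) [IsIso i] : Function.Bijective (res F i) :=
  ⟨fun x y h => by
    have h' := congrArg (res F (inv i)) h
    rwa [← res_comp, ← res_comp, IsIso.inv_hom_id, res_id, res_id] at h',
    fun y => ⟨res F (inv i) y, by rw [← res_comp, IsIso.hom_inv_id, res_id]⟩⟩

theorem pb_surjective {E E' : EtOver X} (i : E' ⟶ E) [IsIso i] : Function.Surjective (pb i) := fun y =>
  ⟨pb (inv i) y, by rw [← pb_comp, IsIso.hom_inv_id, pb_id]⟩

/-- Base change of sections is insensitive to isomorphisms. -/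
theorem bc_iso_comp (F : ModEt X) {E E' E'' : EtOver X} (i : E'' ⟶ E') [IsIso i] (g : E' ⟶ E) (h : BC F g) :
    BC F (i ≫ g) := by
  letI := (pb g).toAlgebra
  let A' := Γ₀ E''
  letI : Algebra (Γ₀ E) A' := (pb (i ≫ g)).toAlgebra
  let φ : Γ₀ E' →ₐ[Γ₀ E] A' := { (pb i : Γ₀ E' →+* A') with commutes' := fun r => rfl }
  have key : ∀ t : Γ₀ E' ⊗[Γ₀ E] sectModEt F E,
      θ F (i ≫ g) (LinearMap.rTensor (sectModEt F E) φ.toLinearMap t) = res F i (θ F g t) := fun t => by
    induction t using TensorProduct.induction_on with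
    | zero => simp only [map_zero]
    | tmul b m =>
      rw [LinearMap.rTensor_tmul, θ_tmul, θ_tmul, res_smul, res_comp]
      rfl
    | add t t' ht ht' => simp only [map_add, ht, ht']
  have hs : Function.Surjective (LinearMap.rTensor (sectModEt F E) φ.toLinearMap) :=
    LinearMap.rTensor_surjective _ (pb_surjective i)
  refine ⟨fun x y hxy => ?_, fun y => ?_⟩
  · obtain ⟨x, rfl⟩ := hs x
    obtain ⟨y, rfl⟩ := hs y
    rw [key, key] at hxy
    rw [h.1 ((res_bijective F i).1 hxy)]
  · obtain ⟨z, rfl⟩ := (res_bijective F i).2 y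
    obtain ⟨t, rfl⟩ := h.2 z
    exact ⟨_, key t⟩

variable {U : Over S} {p : (yon S).obj U ⟶ X} (hp : RepWith @Etale p)

theorem exists_open_chart (hs : RepWith @Surjective p) {E : EtOver X} (z : E.obj.left.left) :
    ∃ (V : EtOver X) (_ : IsAffine V.obj.left.left) (g : V ⟶ E) (W : U.left.Opens) (_ : IsAffineOpen W)
      (_ : V ⟶ pushObj hp (openEt U W)), z ∈ Set.range g.hom.left.left := by
  obtain ⟨v, hv⟩ := Groth.L23.surjective_ofPt hs (Points.ofPt E.obj.hom z)
  obtain ⟨_, ⟨(W : U.left.Opens), hW, rfl⟩, hvW, -⟩ :=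
    U.left.isBasis_affineOpens.exists_subset_of_mem_open (Set.mem_univ v) isOpen_univ
  let w : (pushObj hp (openEt U W)).obj.left.left := (⟨v, hvW⟩ : W)
  have hw : Points.ofPt E.obj.hom z = Points.ofPt (pushObj hp (openEt U W)).obj.hom w := by
    rw [← hv]
    show _ = Points.ofPt (((yon S).map (EtOver.homOfEtale (etaleOfOpen U.left W)) ≫ 𝟙 _) ≫ p) _
    rw [Category.comp_id, Groth.L23.ofPt_comp]
    rfl
  obtain ⟨V, hV, g₁, g₂, x, hx, -⟩ := exists_common z w hw
  exact ⟨V, hV, g₁, W, hW, g₂, x, hx⟩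

/-- A module whose restriction to a surjective etale chart is quasi-coherent is quasi-coherent. -/
theorem isQuasicoherent_of_restr (hs : RepWith @Surjective p) (F : ModEt X)
    [((restr hp).obj F).IsQuasicoherent] : F.IsQuasicoherent := by
  let ι : Type (u + 1) := ULift.{u + 1} {W : U.left.Opens // IsAffineOpen W}
  refine isQuasicoherent_of_bc F (fun i : ι => pushObj hp (openEt U i.down.1)) (fun Z => ?_) fun i W' _ g => ?_
  · choose V hV g W hW h hz using fun z : Z.obj.left.left => exists_open_chart hp hs z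
    refine (etTop X).superset_covering ?_ (ofArrows_mem_etTop V g fun z => ⟨z, hz z⟩)
    rintro T k hk
    obtain ⟨z, l, rfl⟩ := (Sieve.mem_ofArrows_iff _ _ _).1 hk
    exact ⟨ULift.up ⟨W z, hW z⟩, ⟨l ≫ h z⟩⟩
  · let Z₀ := openEt U i.down.1
    haveI : IsAffine Z₀.obj.left.left := i.down.2
    let Z' : EtOver ((yon S).obj U) := EtOver.mk ((yon S).map g.hom.left ≫ Z₀.obj.hom)
      ((repWith_isMultiplicative (S := S) @Etale).comp_mem _ _
        ((repWith_yon_map_iff _ _).2 (EtOver.etale_left g)) Z₀.property)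
    haveI : IsAffine Z'.obj.left.left := ‹IsAffine W'.obj.left.left›
    let g' : Z' ⟶ Z₀ := EtOver.homMk g.hom.left rfl
    let e : W' ⟶ pushObj hp Z' := EtOver.homMk (𝟙 _) (by
      show (yon S).map (𝟙 _) ≫ ((yon S).map g.hom.left ≫ Z₀.obj.hom) ≫ p = _
      rw [CategoryTheory.Functor.map_id, Category.id_comp, Category.assoc]
      exact EtOver.w g)
    let e' : pushObj hp Z' ⟶ W' := EtOver.homMk (𝟙 _) (by
      show (yon S).map (𝟙 _) ≫ W'.obj.hom = ((yon S).map g.hom.left ≫ Z₀.obj.hom) ≫ p
      rw [CategoryTheory.Functor.map_id, Category.id_comp, Category.assoc]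
      exact (EtOver.w g).symm)
    haveI : IsIso e := ⟨e', EtOver.hom_ext _ _ (Category.id_comp _), EtOver.hom_ext _ _ (Category.id_comp _)⟩
    have hg : g = e ≫ pushMap hp g' := EtOver.hom_ext _ _ (Category.id_comp _).symm
    rw [hg]
    exact bc_iso_comp F e _ (bc_of_isQuasicoherent ((restr hp).obj F) g')

end Groth.L09.Pull
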