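import Groth.Agent.L09.Pull.Transfer

/-!
# The test module for computing inverse images
-/

universe u

open CategoryTheory CategoryTheory.Limits AlgebraicGeometry Opposite AlgSp TensorProduct

set_option autoImplicit false
set_option linter.style.haveILetI false
set_option backward.isDefEq.respectTransparency false
set_option backward.isDefEq.respectTransparency.types false

noncomputable section

namespace Groth.L09.Pull

open ModEt

variable {S : Scheme.{u}} {X Y : Sp S} {f : X ⟶ Y} (hf : Representable f) (G : ModEt Y) (E : EtOver Y)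

/-- An affine object over `Z` with a map to the base change of `E`. -/
structure Chart (Z : EtOver X) : Type (u + 1) where
  src : EtOver X
  aff : IsAffine src.obj.left.left
  z : src ⟶ Z
  u : src ⟶ EtOver.bcObj hf E

variable {E}

/-- A chart, pushed forward. -/
abbrev Chart.push {Z Z' : EtOver X} (g : Z' ⟶ Z) (c : Chart hf E Z') : Chart hf E Z :=
  ⟨c.src, c.aff, c.z ≫ g, c.u⟩

/-- Compatibility of a family over all charts. -/
def IsCompat {Z : EtOver X} (s : Π c : Chart hf E Z, Tn hf G c.u) : Prop :=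
  ∀ (c c' : Chart hf E Z) (w : c'.src ⟶ c.src), w ≫ c.z = c'.z → ∀ hu : w ≫ c.u = c'.u,
    tres hf G w hu (s c) = s c'

variable (E) in
/-- Compatible families. -/
def Fam (Z : EtOver X) : AddSubgroup (Π c : Chart hf E Z, Tn hf G c.u) where
  carrier := {s | IsCompat hf G s}
  zero_mem' := fun c c' w _ hu => map_zero _
  add_mem' := fun {s t} hs ht c c' w hw hu => by
    simp only [Pi.add_apply, map_add, hs c c' w hw hu, ht c c' w hw hu]
  neg_mem' := fun {s} hs c c' w hw hu => by simp only [Pi.neg_apply, map_neg, hs c c' w hw hu]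

instance famModule (Z : EtOver X) : Module (Γ₀ Z) (Fam hf G E Z) where
  smul r s := ⟨fun c => pb c.z r • s.1 c, fun c c' w hw hu => by
    rw [tres_smul, s.2 c c' w hw hu, ← pb_comp, hw]⟩
  one_smul s := Subtype.ext (funext fun c => by
    show pb c.z 1 • s.1 c = _
    rw [map_one, one_smul])
  mul_smul r r' s := Subtype.ext (funext fun c => by
    show pb c.z (r * r') • s.1 c = pb c.z r • pb c.z r' • s.1 c
    rw [map_mul, mul_smul])
  smul_zero r := Subtype.ext (funext fun c => smul_zero _)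
  smul_add r s s' := Subtype.ext (funext fun c => smul_add _ _ _)
  add_smul r r' s := Subtype.ext (funext fun c => by
    show pb c.z (r + r') • s.1 c = pb c.z r • s.1 c + pb c.z r' • s.1 c
    rw [map_add, add_smul])
  zero_smul s := Subtype.ext (funext fun c => by
    show pb c.z 0 • s.1 c = _
    rw [map_zero, zero_smul]
    rfl)

/-- Restriction of compatible families. -/
def famRes {Z Z' : EtOver X} (g : Z' ⟶ Z) : Fam hf G E Z →+ Fam hf G E Z' :=
  AddMonoidHom.mk' (fun s => ⟨fun c => s.1 (c.push hf g), fun c c' w hw hu =>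
    s.2 (c.push hf g) (c'.push hf g) w (by simp [reassoc_of% hw]) hu⟩) fun _ _ => rfl

theorem famRes_apply {Z Z' : EtOver X} (g : Z' ⟶ Z) (s : Fam hf G E Z) (c : Chart hf E Z') :
    (famRes hf G g s).1 c = s.1 (c.push hf g) := rfl

theorem fam_congr {Z : EtOver X} (s : Fam hf G E Z) {W : EtOver X} {a : IsAffine W.obj.left.left}
    {z z' : W ⟶ Z} (ez : z = z') {u : W ⟶ EtOver.bcObj hf E} :
    s.1 ⟨W, a, z, u⟩ = s.1 ⟨W, a, z', u⟩ := by subst ez; rfl

variable (E) in
/-- The underlying presheaf of abelian groups. -/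
def famAb : (EtOver X)ᵒᵖ ⥤ Ab.{u + 1} where
  obj Z := AddCommGrpCat.of (Fam hf G E Z.unop)
  map g := AddCommGrpCat.ofHom (famRes hf G g.unop)
  map_id Z := AddCommGrpCat.ext fun s => Subtype.ext (funext fun c => by
    show s.1 (c.push hf (𝟙 _)) = s.1 c
    exact fam_congr hf G s (Category.comp_id _))
  map_comp g g' := AddCommGrpCat.ext fun s => Subtype.ext (funext fun c =>
    fam_congr hf G s (Category.assoc _ _ _).symm)

instance (Z : (EtOver X)ᵒᵖ) : Module ((OEtRing X).obj.obj Z) ((famAb hf G E).obj Z) :=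
  Module.compHom (Fam hf G E Z.unop)
    ((ULift.ringEquiv (R := Γ₀ Z.unop)).toRingHom : (OEtRing X).obj.obj Z →+* Γ₀ Z.unop)

variable (E) in
/-- The presheaf of modules of compatible families. -/
def famMod : PresheafOfModules.{u + 1} (OEtRing X).obj :=
  PresheafOfModules.ofPresheaf (famAb hf G E) fun Z Z' g r s => Subtype.ext (funext fun c => rfl)

section Glue

variable {Z : EtOver X} {ι : Type (u + 1)} {V : ι → EtOver X} (g : ∀ i, V i ⟶ Z) (x : Π i, Fam hf G E (V i))

/-- The glued value at a chart. -/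
def IsV (c : Chart hf E Z) (t : Tn hf G c.u) : Prop :=
  ∀ (i : ι) (W : EtOver X) (hW : IsAffine W.obj.left.left) (p : W ⟶ c.src) (e : W ⟶ V i),
    p ≫ c.z = e ≫ g i → tres hf G p rfl t = (x i).1 ⟨W, hW, e, p ≫ c.u⟩

theorem IsV.apply {c : Chart hf E Z} {t : Tn hf G c.u} (h : IsV hf G g x c t) {i : ι} {W : EtOver X}
    (hW : IsAffine W.obj.left.left) (p : W ⟶ c.src) (e : W ⟶ V i) (he : p ≫ c.z = e ≫ g i)
    {u' : W ⟶ EtOver.bcObj hf E} (hu : p ≫ c.u = u') : tres hf G p hu t = (x i).1 ⟨W, hW, e, u'⟩ := by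
  subst hu
  exact h i W hW p e he

variable (hx : ∀ (i j : ι) (W : EtOver X) (a : W ⟶ V i) (b : W ⟶ V j), a ≫ g i = b ≫ g j →
  famRes hf G a (x i) = famRes hf G b (x j)) (hg : IsCover g)

include hx in
theorem agree {W : EtOver X} (hW : IsAffine W.obj.left.left) {i j : ι} (a : W ⟶ V i) (b : W ⟶ V j)
    (e : a ≫ g i = b ≫ g j) (w : W ⟶ EtOver.bcObj hf E) : (x i).1 ⟨W, hW, a, w⟩ = (x j).1 ⟨W, hW, b, w⟩ := by
  have h := congrFun (congrArg Subtype.val (hx i j W a b e)) ⟨W, hW, 𝟙 W, w⟩
  rw [famRes_apply, famRes_apply] at h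
  exact ((fam_congr hf G (x i) (Category.id_comp a).symm).trans h).trans (fam_congr hf G (x j) (Category.id_comp b))

theorem exists_lift_chart (c : Chart hf E Z) (hg : IsCover g) :
    ∃ (κ : Type u) (_ : Finite κ) (W : κ → EtOver X) (p : ∀ k, W k ⟶ c.src) (i : κ → ι) (e : ∀ k, W k ⟶ V (i k)),
      IsCover p ∧ (∀ k, IsAffine (W k).obj.left.left) ∧ ∀ k, p k ≫ c.z = e k ≫ g (i k) := by
  haveI := c.aff
  obtain ⟨κ, hκ, W, p, hW, hR, hp⟩ := exists_finite_cover (E := c.src)
    (ofArrows_mem_etTop _ _ (hg.pullback c.z))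
  choose i e he using fun k => (Sieve.mem_ofArrows_iff _ _ _).1 (hR k)
  exact ⟨κ, hκ, W, p, i, fun k => e k ≫ EtOver.pullbackSnd c.z (g (i k)), hp, hW, fun k => by
    rw [he k, Category.assoc, Category.assoc, EtOver.pullback_condition]⟩

include hx hg in
theorem exists_isV (c : Chart hf E Z) : ∃ t, IsV hf G g x c t := by
  obtain ⟨κ, _, W, p, i, e, hp, hW, he⟩ := exists_lift_chart hf g c hg
  haveI := hW
  haveI := c.aff
  obtain ⟨t, ht⟩ := tn_glue hf G hp (u := c.u) (fun k => (x (i k)).1 ⟨W k, hW k, e k, p k ≫ c.u⟩) fun k l => by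
    have hP := isAffine_pullback (p k) (p l)
    rw [(x (i k)).2 ⟨W k, hW k, e k, p k ≫ c.u⟩
        ⟨_, hP, EtOver.pullbackFst (p k) (p l) ≫ e k, _⟩ _ rfl,
      (x (i l)).2 ⟨W l, hW l, e l, p l ≫ c.u⟩
        ⟨_, hP, EtOver.pullbackSnd (p k) (p l) ≫ e l, _⟩ _ rfl]
    refine agree hf G g x hx hP _ _ ?_ _
    rw [Category.assoc, Category.assoc, ← he k, ← he l, ← Category.assoc, ← Category.assoc,
      EtOver.pullback_condition]
  refine ⟨t, fun j W' hW' p' e' he' => ?_⟩
  rw [← sub_eq_zero]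
  haveI := fun k => isAffine_pullback p' (p k)
  refine tn_separated hf G (hp.pullback p') fun k => ?_
  let a := EtOver.pullbackFst p' (p k)
  let b := EtOver.pullbackSnd p' (p k)
  rw [map_sub, sub_eq_zero, tres_comp, tres_congr hf G (EtOver.pullback_condition p' (p k)),
    ← tres_comp hf G b (p k) (u' := p k ≫ c.u) rfl
      (by rw [← Category.assoc, ← EtOver.pullback_condition, Category.assoc]), ht k,
    (x (i k)).2 ⟨W k, hW k, e k, p k ≫ c.u⟩ ⟨_, this k, b ≫ e k, _⟩ b rfl,
    (x j).2 ⟨W', hW', e', p' ≫ c.u⟩ ⟨_, this k, a ≫ e', _⟩ a rfl]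
  refine agree hf G g x hx (this k) _ _ ?_ _
  rw [Category.assoc, Category.assoc, ← he k, ← he', ← Category.assoc, ← Category.assoc,
    EtOver.pullback_condition]

include hg in
theorem isV_unique {c : Chart hf E Z} {t t' : Tn hf G c.u} (ht : IsV hf G g x c t) (ht' : IsV hf G g x c t') :
    t = t' := by
  obtain ⟨κ, _, W, p, i, e, hp, hW, he⟩ := exists_lift_chart hf g c hg
  haveI := hW
  haveI := c.aff
  rw [← sub_eq_zero]
  refine tn_separated hf G hp fun k => ?_
  rw [map_sub, sub_eq_zero, ht (i k) _ (hW k) (p k) (e k) (he k), ht' (i k) _ (hW k) (p k) (e k) (he k)]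

include hx hg in
theorem exists_unique_glue : ∃! s : Fam hf G E Z, ∀ i, famRes hf G (g i) s = x i := by
  choose t ht using exists_isV hf G g x hx hg
  refine ⟨⟨t, fun c c' w hw hu => ?_⟩, fun i => Subtype.ext (funext fun c => ?_), fun s hs => ?_⟩
  · refine isV_unique hf G g x hg (fun j W hW p e he => ?_) (ht c')
    rw [tres_comp]
    exact IsV.apply hf G g x (ht c) hW (p ≫ w) e (by rw [Category.assoc, hw, he]) (by rw [Category.assoc, hu])
  · have := IsV.apply hf G g x (ht (c.push hf (g i))) c.aff (i := i) (𝟙 c.src) c.z (Category.id_comp _)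
      (Category.id_comp c.u)
    rw [tres_id] at this
    exact this
  · refine Subtype.ext (funext fun c => isV_unique hf G g x hg (fun i W hW p e he => ?_) (ht c))
    haveI := hW
    rw [← hs i, famRes_apply, s.2 c ⟨W, hW, p ≫ c.z, p ≫ c.u⟩ p rfl rfl]
    exact fam_congr hf G s he

end Glue

variable (E) in
theorem isSheaf_famMod : Presheaf.IsSheaf (etTop X) (famMod hf G E).presheaf := by
  refine (Presheaf.isSheaf_iff_isSheaf_forget (J := etTop X) _ (CategoryTheory.forget Ab.{u + 1})).2 ?_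
  rw [isSheaf_iff_isSheaf_of_type]
  unfold etTop
  rw [Precoverage.isSheaf_toGrothendieck_iff_of_isStableUnderBaseChange]
  intro Z R hR
  obtain ⟨ι, V, g, rfl⟩ := R.exists_eq_ofArrows
  rw [Presieve.isSheafFor_arrows_iff]
  intro x hx
  exact exists_unique_glue hf G g x (fun i j W a b e => hx i j W a b e) ((ofArrows_mem_etPre_iff V g).1 hR)

variable (E) in
/-- The test module: compatible families over the charts. -/
def coind : ModEt X := ⟨famMod hf G E, isSheaf_famMod hf G E⟩

end Groth.L09.Pull
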