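import Groth.Agent.L09.Pull.Chart
import Groth.Agent.L16.QcqsPush
import Mathlib.Algebra.Module.Shrink

/-!
# The Zariski companion of a quasi-coherent module on the small etale site of a scheme
-/

universe u

open CategoryTheory CategoryTheory.Limits AlgebraicGeometry Opposite AlgSp TopologicalSpace TensorProduct

set_option autoImplicit false
set_option linter.style.haveILetI false
set_option backward.isDefEq.respectTransparency false
set_option backward.isDefEq.respectTransparency.types false

noncomputable section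

namespace Groth.L09.Pull

open ModEt
open Groth.L18.Frame (rs ro rs_rs ro_ro rs_smul rs_self ro_self)

variable {S : Scheme.{u}} {U : Over S} (M : ModEt ((yon S).obj U))

/-- The inclusion of opens on the etale site. -/
abbrev openLE {W W' : U.left.Opens} (h : W' ≤ W) : openEt U W' ⟶ openEt U W :=
  (EtOver.ofScheme U).map (etaleOfLE h)

theorem openLE_left {W W' : U.left.Opens} (h : W' ≤ W) : (openLE h).hom.left.left = U.left.homOfLE h :=
  EtOver.ofChart_map_left _ _ _

/-- Functions on an open as functions on the object. -/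
def tz (W : U.left.Opens) : Γ(U.left, W) →+* Γ₀ (openEt U W) := W.topIso.inv.hom

theorem tz_hom (W : U.left.Opens) (r : Γ₀ (openEt U W)) : tz W (W.topIso.hom r) = r := W.topIso.hom_inv_id_apply r

theorem tz_res {W W' : U.left.Opens} (h : W' ≤ W) (a : Γ(U.left, W)) :
    pb (openLE h) (tz W a) = tz W' (ro h a) := by
  have e : W.topIso.inv ≫ (U.left.homOfLE h).appTop = U.left.presheaf.map (homOfLE h).op ≫ W'.topIso.inv := by
    rw [Scheme.Hom.appTop, Scheme.homOfLE_app]
    simp only [Scheme.Opens.topIso, Functor.mapIso_inv, ← Functor.map_comp]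
    exact congrArg U.left.presheaf.map (Subsingleton.elim _ _)
  exact DFunLike.congr_fun (congrArg CommRingCat.Hom.hom e) a

/-- The sections over an open, as a module over its functions. -/
def SW (W : U.left.Opens) : Type (u + 1) := sectModEt M (openEt U W)

instance (W : U.left.Opens) : AddCommGroup (SW M W) := inferInstanceAs (AddCommGroup (sectModEt M (openEt U W)))

instance swModule (W : U.left.Opens) : Module Γ(U.left, W) (SW M W) :=
  Module.compHom (sectModEt M (openEt U W)) (tz W)

/-- Restriction between opens. -/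
def swRes {W W' : U.left.Opens} (h : W' ≤ W) : SW M W →+ SW M W' := res M (openLE h)

theorem swRes_smul {W W' : U.left.Opens} (h : W' ≤ W) (a : Γ(U.left, W)) (m : SW M W) :
    swRes M h (a • m) = ro h a • swRes M h m := by
  show res M (openLE h) (tz W a • (show sectModEt M (openEt U W) from m)) = _
  rw [res_smul, tz_res]
  rfl

theorem openLE_comp {W W' W'' : U.left.Opens} (h : W' ≤ W) (h' : W'' ≤ W') :
    openLE h' ≫ openLE h = openLE (h'.trans h) :=
  EtOver.hom_ext _ _ (Over.OverMorphism.ext (by
    show (openLE h').hom.left.left ≫ (openLE h).hom.left.left = (openLE (h'.trans h)).hom.left.left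
    rw [openLE_left, openLE_left, openLE_left, Scheme.homOfLE_homOfLE]))

theorem openLE_refl {W : U.left.Opens} (h : W ≤ W) : openLE h = 𝟙 _ :=
  EtOver.hom_ext _ _ (Over.OverMorphism.ext (by
    show (openLE h).hom.left.left = 𝟙 _
    rw [openLE_left]
    exact U.left.homOfLE_rfl W))

theorem isCover_openLE {κ : Type*} (U' : κ → U.left.Opens) {W : U.left.Opens} (hle : ∀ k, U' k ≤ W)
    (hsup : W ≤ ⨆ k, U' k) : IsCover fun k => openLE (hle k) := fun x => by
  obtain ⟨k, hk⟩ := Opens.mem_iSup.1 (hsup (x : W).2)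
  refine ⟨k, (⟨(x : W).1, hk⟩ : U' k), ?_⟩
  rw [openLE_left]
  exact Subtype.ext (Scheme.homOfLE_apply _ _)

theorem small_open (hs : ∀ W : U.left.Opens, IsAffineOpen W → Small.{u} (SW M W)) (W : U.left.Opens) :
    Small.{u} (SW M W) := by
  let κ := {V : U.left.Opens // IsAffineOpen V ∧ V ≤ W}
  haveI : ∀ k : κ, Small.{u} (SW M k.1) := fun k => hs _ k.2.1
  refine small_of_injective (f := fun m (k : κ) => swRes M k.2.2 m) fun m m' h => ?_
  refine eq_of_cover M (c := fun k : κ => openLE k.2.2) (isCover_openLE (fun k : κ => k.1) _ fun x hx => ?_)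
    (congrFun h)
  obtain ⟨_, ⟨(V : U.left.Opens), hV, rfl⟩, hxV, hVW⟩ :=
    U.left.isBasis_affineOpens.exists_subset_of_mem_open hx W.isOpen
  exact Opens.mem_iSup.2 ⟨⟨V, hV, hVW⟩, hxV⟩

theorem exists_factor_open {Z : EtOver ((yon S).obj U)} {W W' : U.left.Opens} (h : W' ≤ W)
    (e : Z ⟶ openEt U W) (hr : ∀ z, (e.hom.left.left z : W).1 ∈ W') :
    ∃ k : Z ⟶ openEt U W', k ≫ openLE h = e := by
  let g : Z.obj.left.left ⟶ W' := IsOpenImmersion.lift (U.left.homOfLE h) e.hom.left.left (by
    rintro _ ⟨z, rfl⟩
    exact ⟨⟨_, hr z⟩, Subtype.ext (Scheme.homOfLE_apply _ _)⟩)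
  have hg : g ≫ (openLE h).hom.left.left = e.hom.left.left := by
    rw [openLE_left]
    exact IsOpenImmersion.lift_fac _ _ _
  let k₀ : Z.obj.left ⟶ (openEt U W').obj.left := Over.homMk g (by
    rw [← Over.w (openLE h).hom.left, reassoc_of% hg, Over.w e.hom.left])
  refine ⟨EtOver.homMk k₀ ?_, EtOver.hom_ext _ _ (Over.OverMorphism.ext hg)⟩
  rw [← EtOver.w (openLE h), ← Category.assoc, ← Functor.map_comp,
    show k₀ ≫ (openLE h).hom.left = e.hom.left from Over.OverMorphism.ext hg, EtOver.w e]

variable [∀ W : U.left.Opens, Small.{u} (SW M W)]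

/-- Shrinking. -/
abbrev sh (W : U.left.Opens) : SW M W ≃ Shrink.{u} (SW M W) := equivShrink.{u} (SW M W)

/-- The companion as a presheaf of groups. -/
def compAb : (U.left.Opens)ᵒᵖ ⥤ Ab.{u} where
  obj W := AddCommGrpCat.of (Shrink.{u} (SW M W.unop))
  map {W W'} f := AddCommGrpCat.ofHom (AddMonoidHom.mk'
    (fun m => sh M W'.unop (swRes M f.unop.le ((sh M W.unop).symm m))) fun m m' => by
      simp only [equivShrink_symm_add, map_add, equivShrink_add])
  map_id W := AddCommGrpCat.ext fun m => by
    show sh M W.unop (swRes M _ ((sh M W.unop).symm m)) = m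
    rw [show swRes M (le_refl W.unop) = res M (openLE (le_refl W.unop)) from rfl, openLE_refl]
    exact (congrArg _ (res_id M _)).trans (Equiv.apply_symm_apply _ _)
  map_comp {W W' W''} f g := AddCommGrpCat.ext fun m => by
    show sh M W''.unop (swRes M _ ((sh M W.unop).symm m)) =
      sh M W''.unop (swRes M g.unop.le ((sh M W'.unop).symm (sh M W'.unop (swRes M f.unop.le _))))
    rw [Equiv.symm_apply_apply]
    refine congrArg _ ?_
    show res M (openLE _) _ = res M (openLE _) (res M (openLE _) _)
    rw [← res_comp, openLE_comp]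

instance (W : (U.left.Opens)ᵒᵖ) : Module (U.left.ringCatSheaf.obj.obj W) ((compAb M).obj W) :=
  inferInstanceAs (Module Γ(U.left, W.unop) (Shrink.{u} (SW M W.unop)))

/-- The companion as a presheaf of modules. -/
def compMod : PresheafOfModules.{u} U.left.ringCatSheaf.obj :=
  PresheafOfModules.ofPresheaf (compAb M) fun W W' f a m => by
    show sh M W'.unop (swRes M f.unop.le ((sh M W.unop).symm
        ((show Γ(U.left, W.unop) from a) • (show Shrink.{u} (SW M W.unop) from m)))) =
      ro f.unop.le (show Γ(U.left, W.unop) from a) • sh M W'.unop (swRes M f.unop.le _)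
    rw [equivShrink_symm_smul, swRes_smul, equivShrink_smul]

theorem isSheaf_compMod : TopCat.Presheaf.IsSheaf (compMod M).presheaf := by
  refine (Presheaf.isSheaf_iff_isSheaf_forget (J := Opens.grothendieckTopology U.left) _
    (CategoryTheory.forget AddCommGrpCat.{u})).2 ?_
  refine TopCat.Presheaf.isSheaf_of_isSheafUniqueGluing_types _ fun ι V sf hsf => ?_
  let t : ∀ i, SW M (V i) := fun i => (sh M (V i)).symm (sf i)
  have hcov := isCover_openLE V (fun i => le_iSup V i) le_rfl
  obtain ⟨s, hs⟩ := exists_glue M hcov t fun i j => by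
    let fi := EtOver.pullbackFst (openLE (le_iSup V i)) (openLE (le_iSup V j))
    let fj := EtOver.pullbackSnd (openLE (le_iSup V i)) (openLE (le_iSup V j))
    obtain ⟨k, hk⟩ := exists_factor_open (inf_le_left : V i ⊓ V j ≤ V i) fi fun z => ⟨(fi.hom.left.left z : V i).2, by
      have h := congrArg (fun q => ((q.hom.left.left z : (iSup V : U.left.Opens)) : U.left))
        (EtOver.pullback_condition (openLE (le_iSup V i)) (openLE (le_iSup V j)))
      change (((openLE (le_iSup V i)).hom.left.left (fi.hom.left.left z)) : (iSup V : U.left.Opens)).1 =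
        (((openLE (le_iSup V j)).hom.left.left (fj.hom.left.left z)) : (iSup V : U.left.Opens)).1 at h
      rw [openLE_left, openLE_left] at h
      rw [(Scheme.homOfLE_apply _ _).symm.trans (h.trans (Scheme.homOfLE_apply _ _))]
      exact (fj.hom.left.left z : V j).2⟩
    have hk' : k ≫ openLE (inf_le_right : V i ⊓ V j ≤ V j) = fj := by
      have h := EtOver.pullback_condition (openLE (le_iSup V i)) (openLE (le_iSup V j))
      change fi ≫ _ = fj ≫ _ at h
      rw [← hk, Category.assoc, openLE_comp, ← openLE_comp (le_iSup V j) inf_le_right, ← Category.assoc] at h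
      refine EtOver.hom_ext _ _ (Over.OverMorphism.ext ?_)
      have h' := congrArg (fun q => q.hom.left.left) h
      change (k ≫ openLE inf_le_right).hom.left.left ≫ (openLE _).hom.left.left =
        fj.hom.left.left ≫ (openLE _).hom.left.left at h'
      rw [openLE_left] at h'
      exact (cancel_mono _).1 h'
    have h := congrArg (sh M (V i ⊓ V j)).symm (hsf i j)
    change (sh M (V i ⊓ V j)).symm (sh M (V i ⊓ V j) (swRes M inf_le_left (t i))) =
      (sh M (V i ⊓ V j)).symm (sh M (V i ⊓ V j) (swRes M inf_le_right (t j))) at h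
    rw [Equiv.symm_apply_apply, Equiv.symm_apply_apply] at h
    show res M fi (t i) = res M fj (t j)
    rw [← hk, ← hk', res_comp, res_comp]
    exact congrArg (res M k) h
  refine ⟨sh M (iSup V) s, fun i => ?_, fun s' hs' => ?_⟩
  · show sh M (V i) (swRes M (le_iSup V i) ((sh M (iSup V)).symm (sh M (iSup V) s))) = sf i
    rw [Equiv.symm_apply_apply, ← (sh M (V i)).apply_symm_apply (sf i)]
    exact congrArg _ (hs i)
  · apply (sh M (iSup V)).symm.injective
    rw [Equiv.symm_apply_apply]
    refine eq_of_cover M hcov fun i => ?_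
    refine Eq.trans ?_ (hs i).symm
    exact ((sh M (V i)).symm_apply_apply _).symm.trans (congrArg (sh M (V i)).symm (hs' i))

/-- The Zariski companion. -/
def companion : U.left.Modules := ⟨compMod M, isSheaf_compMod M⟩

/-- The companion structure. -/
def compStr : ZarCompanion U.left (companion M) ((resSchModEt U).obj M) where
  iso W := (AddEquiv.symm (Shrink.addEquiv (α := SW M W))).trans AddEquiv.ulift.symm
  map_smul W a m := ULift.ext _ _ (by
    show equivShrink.{u} (SW M W) (a • (show SW M W from m)) = a • equivShrink.{u} (SW M W) m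
    exact equivShrink_smul _ _)
  map_res {W W'} h m := ULift.ext _ _ (by
    show equivShrink.{u} (SW M W') (res M (openLE h) m) =
      equivShrink.{u} (SW M W') (swRes M _ ((equivShrink.{u} (SW M W)).symm (equivShrink.{u} (SW M W) m)))
    rw [Equiv.symm_apply_apply]
    rfl)

omit [∀ W : U.left.Opens, Small.{u} (SW M W)] in
theorem isLocalization_openEt {W : U.left.Opens} (hW : IsAffineOpen W) (a : Γ(U.left, W)) :
    letI := (pb (openLE (U.left.basicOpen_le a))).toAlgebra
    IsLocalization (Submonoid.powers (tz W a)) (Γ₀ (openEt U (U.left.basicOpen a))) := by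
  letI := (pb (openLE (U.left.basicOpen_le a))).toAlgebra
  haveI := hW.isLocalization_basicOpen a
  let D := U.left.basicOpen a
  have hres : ∀ x, algebraMap Γ(U.left, W) Γ(U.left, D) x = ro (U.left.basicOpen_le a) x := fun x => rfl
  have hpb : ∀ x, algebraMap (Γ₀ (openEt U W)) (Γ₀ (openEt U D)) (tz W x) = tz D (algebraMap Γ(U.left, W) _ x) :=
    fun x => by rw [hres]; exact tz_res _ x
  obtain ⟨h₁, h₂, h₃⟩ := (isLocalization_iff (Submonoid.powers a) Γ(U.left, D)).1 inferInstance
  refine (isLocalization_iff _ _).2 ⟨?_, fun z => ?_, fun {x y} h => ?_⟩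
  · rintro ⟨_, n, rfl⟩
    show IsUnit (algebraMap (Γ₀ (openEt U W)) (Γ₀ (openEt U D)) (tz W a ^ n))
    rw [← map_pow (tz W) a n, hpb]
    exact (h₁ ⟨a ^ n, n, rfl⟩).map (tz D)
  · obtain ⟨⟨x, ⟨_, n, rfl⟩⟩, hx⟩ := h₂ (D.topIso.hom z)
    refine ⟨⟨tz W x, ⟨_, n, rfl⟩⟩, ?_⟩
    show z * algebraMap (Γ₀ (openEt U W)) (Γ₀ (openEt U D)) (tz W a ^ n) = _
    rw [← map_pow (tz W) a n, hpb, hpb]
    conv_lhs => rw [← tz_hom D z]
    rw [← map_mul]
    exact congrArg (tz D) hx
  · rw [← tz_hom W x, ← tz_hom W y, hpb, hpb] at h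
    have h' : Function.Injective (tz D) := fun p q e => by
      have e' := congrArg D.topIso.hom e
      exact (D.topIso.inv_hom_id_apply p).symm.trans (e'.trans (D.topIso.inv_hom_id_apply q))
    obtain ⟨⟨_, n, rfl⟩, hn⟩ := h₃ (h' h)
    refine ⟨⟨_, n, rfl⟩, ?_⟩
    show tz W a ^ n * x = tz W a ^ n * y
    rw [← map_pow, ← tz_hom W x, ← tz_hom W y, ← map_mul, ← map_mul]
    exact congrArg (tz W) hn

theorem isQCoh_companion [M.IsQuasicoherent] : Coh.IsQCoh (companion M) := by
  refine Groth.L16.QcqsPush.isQCoh_of_sections _ fun y => ?_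
  obtain ⟨_, ⟨(W : U.left.Opens), hW, rfl⟩, hyW, -⟩ :=
    U.left.isBasis_affineOpens.exists_subset_of_mem_open (Set.mem_univ y) isOpen_univ
  refine ⟨W, hyW, hW, fun a => ?_⟩
  have hle := U.left.basicOpen_le a
  let g := openLE hle
  haveI : IsAffine (openEt U W).obj.left.left := hW
  haveI : IsAffine (openEt U (U.left.basicOpen a)).obj.left.left := hW.basicOpen a
  letI := (pb g).toAlgebra
  haveI := isLocalization_openEt hW a
  let P := Submonoid.powers (tz W a)
  let A' := Γ₀ (openEt U (U.left.basicOpen a))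
  haveI hloc : IsLocalizedModule P (TensorProduct.mk (Γ₀ (openEt U W)) A' (sectModEt M (openEt U W)) 1) :=
    IsLocalization.tensorProduct_isLocalizedModule P A'
  have hbij := bc_of_isQuasicoherent M g
  constructor
  · intro s
    obtain ⟨t, ht⟩ := hbij.2 ((sh M (U.left.basicOpen a)).symm (show Shrink.{u} (SW M (U.left.basicOpen a)) from s))
    obtain ⟨⟨m, ⟨_, n, rfl⟩⟩, hm⟩ :=
      IsLocalizedModule.surj P (TensorProduct.mk (Γ₀ (openEt U W)) A' (sectModEt M (openEt U W)) 1) t
    refine ⟨n, equivShrink.{u} (SW M W) m, ?_⟩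
    show equivShrink.{u} (SW M (U.left.basicOpen a)) (swRes M hle ((equivShrink.{u} (SW M W)).symm (equivShrink.{u} (SW M W) m))) =
      ro hle (a ^ n) • (show Shrink.{u} (SW M (U.left.basicOpen a)) from s)
    refine (sh M (U.left.basicOpen a)).symm.injective ?_
    rw [equivShrink_symm_smul, Equiv.symm_apply_apply, Equiv.symm_apply_apply]
    have hm' : (tz W a ^ n) • t = (1 : A') ⊗ₜ m := hm
    have key : ∀ (r : Γ₀ (openEt U W)) (x : A' ⊗[Γ₀ (openEt U W)] sectModEt M (openEt U W)),
        θ M g (r • x) = pb g r • θ M g x := fun r x => by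
      induction x using TensorProduct.induction_on with
      | zero => simp
      | tmul b z => rw [TensorProduct.smul_tmul', θ_tmul, θ_tmul, Algebra.smul_def, mul_smul]; rfl
      | add x x' hx hx' => simp only [smul_add, map_add, hx, hx']
    have h := congrArg (θ M g) hm'
    rw [key, θ_tmul, one_smul, ← map_pow, tz_res, ht] at h
    exact h.symm
  · intro t ht
    let m : sectModEt M (openEt U W) := (equivShrink.{u} (SW M W)).symm (show Shrink.{u} (SW M W) from t)
    have h0 : res M g m = 0 := by
      have h := congrArg (equivShrink.{u} (SW M (U.left.basicOpen a))).symm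
        (show equivShrink.{u} (SW M (U.left.basicOpen a)) (swRes M hle m) =
          (0 : Shrink.{u} (SW M (U.left.basicOpen a))) from ht)
      rwa [Equiv.symm_apply_apply, equivShrink_symm_zero] at h
    have h1 : TensorProduct.mk (Γ₀ (openEt U W)) A' (sectModEt M (openEt U W)) 1 m =
        TensorProduct.mk (Γ₀ (openEt U W)) A' (sectModEt M (openEt U W)) 1 0 := by
      refine hbij.1 ?_
      rw [TensorProduct.mk_apply, θ_tmul, one_smul, h0, map_zero, map_zero]
    obtain ⟨⟨_, n, rfl⟩, hn⟩ := IsLocalizedModule.exists_of_eq (S := P) h1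
    refine ⟨n, ?_⟩
    show a ^ n • (show Shrink.{u} (SW M W) from t) = 0
    refine (sh M W).symm.injective ?_
    rw [equivShrink_symm_smul, equivShrink_symm_zero]
    show tz W (a ^ n) • m = 0
    rw [map_pow]
    exact hn.trans (smul_zero _)

end Groth.L09.Pull
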