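import Groth.Agent.L09.Pull.Main
import Groth.Agent.L09.ModEt.Push
import Groth.Agent.L20.WeakAssFinite
import Groth.Agent.L23.AffineMor
import Groth.Agent.L23.LocP

/-!
# Weakly associated points of inverse images along finite flat morphisms
-/

universe u v

open CategoryTheory CategoryTheory.Limits AlgebraicGeometry Opposite AlgSp TensorProduct

set_option autoImplicit false
set_option linter.style.haveILetI false
set_option backward.isDefEq.respectTransparency false
set_option backward.isDefEq.respectTransparency.types false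

noncomputable section

namespace Groth.L09.Pull

open ModEt Groth.L03.WeakAss

/-- Weakly associated primes descend along finite flat maps, modules in any universe. -/
theorem mem_weakAss_of_tensor' {A B : Type u} {M : Type v} [CommRing A] [CommRing B] [Algebra A B]
    [Module.Finite A B] [Module.Flat A B] [AddCommGroup M] [Module A M] (p : Ideal A) [p.IsPrime]
    (h : p ∈ FlatCA.weakAss A (B ⊗[A] M)) : p ∈ FlatCA.weakAss A M := by
  have hdis : Disjoint (p.primeCompl : Set A) (p : Set A) :=
    Set.disjoint_left.2 fun _ h1 h2 => h1 h2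
  have h' := (mem_weakAss_localizedModule_iff (B ⊗[A] M) p.primeCompl).2 ⟨h, hdis⟩
  haveI : Module.Free (Localization.AtPrime p) (Localization.AtPrime p ⊗[A] B) :=
    Module.free_of_flat_of_isLocalRing
  let b := Module.Free.chooseBasis (Localization.AtPrime p) (Localization.AtPrime p ⊗[A] B)
  let e : LocalizedModule p.primeCompl (B ⊗[A] M) ≃ₗ[Localization.AtPrime p]
      (Module.Free.ChooseBasisIndex (Localization.AtPrime p) (Localization.AtPrime p ⊗[A] B) →₀
        LocalizedModule p.primeCompl M) :=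
    LocalizedModule.equivTensorProduct p.primeCompl (B ⊗[A] M) ≪≫ₗ
      AlgebraTensorModule.distribBaseChange A (Localization.AtPrime p) B M ≪≫ₗ
      TensorProduct.equivFinsuppOfBasisLeft b ≪≫ₗ
      Finsupp.mapRange.linearEquiv (LocalizedModule.equivTensorProduct p.primeCompl M).symm
  rw [Groth.L20.WeakAssFinite.weakAss_congr (e.restrictScalars A)] at h'
  exact ((mem_weakAss_localizedModule_iff M p.primeCompl).1
    (Groth.L20.WeakAssFinite.mem_weakAss_of_finsupp h')).1

variable {S : Scheme.{u}} {X Y : Sp S} {f : X ⟶ Y} (hf : Representable f)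
  [(SheafOfModules.pushforward.{u + 1} (bcRingHom hf)).IsRightAdjoint] (G : ModEt Y)

theorem isWeakAssOn_bcObj_iff [G.IsQuasicoherent] (hfin : RepWith @IsFinite f) (hflat : RepWith @Flat f)
    (E : EtOver Y) [IsAffine E.obj.left.left] [IsAffine (EtOver.bcObj hf E).obj.left.left]
    (w : (EtOver.bcObj hf E).obj.left.left) :
    IsWeakAssOn (pullM hf G) (EtOver.bcObj hf E) w ↔ IsWeakAssOn G E ((EtOver.bcπ hf E).left w) := by
  haveI : IsFinite (EtOver.bcπ hf E).left := Groth.L23.repWith_snd hfin E.obj.hom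
  haveI : Flat (EtOver.bcπ hf E).left := Groth.L23.repWith_snd hflat E.obj.hom
  let u : EtOver.bcObj hf E ⟶ EtOver.bcObj hf E := 𝟙 _
  let B := Rg hf u
  have halg : algebraMap (Γ₀ E) B = π₀ hf E := RingHom.ext fun r => pb_id _
  haveI : Module.Finite (Γ₀ E) B := by
    have h := ((HasAffineProperty.iff_of_isAffine (P := @IsFinite)).1
      (inferInstance : IsFinite (EtOver.bcπ hf E).left)).2
    rw [← RingHom.finite_algebraMap, halg]
    exact h
  haveI : Module.Flat (Γ₀ E) B := by
    have h := (HasRingHomProperty.iff_of_isAffine (P := @Flat)).1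
      (inferInstance : Flat (EtOver.bcπ hf E).left)
    rw [← RingHom.flat_algebraMap_iff, halg]
    exact h
  let e : (B ⊗[Γ₀ E] sectModEt G E) ≃ₗ[Γ₀ (EtOver.bcObj hf E)] sectModEt (pullM hf G) (EtOver.bcObj hf E) :=
    LinearEquiv.ofBijective
      { toFun := θ' hf G u
        map_add' := map_add _
        map_smul' := θ'_smul hf G u } (bijective_θ' hf G u)
  let t : Ideal B := primeAtPt (EtOver.bcObj hf E).obj.left.left w
  haveI : t.IsPrime := inferInstanceAs (primeAtPt (EtOver.bcObj hf E).obj.left.left w).IsPrime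
  let p := primeAtPt E.obj.left.left ((EtOver.bcπ hf E).left w)
  haveI : t.LiesOver p := ⟨by
    show p = t.comap (algebraMap (Γ₀ E) B)
    rw [halg]
    exact (comap_primeAtPt (EtOver.bcπ hf E).left w).symm⟩
  rw [isWeakAssOn_iff_isWA, isWeakAssOn_iff_isWA, ← WA.isWA_iff_of_equiv e]
  change WA.IsWA B (B ⊗[Γ₀ E] sectModEt G E) t ↔ WA.IsWA (Γ₀ E) (sectModEt G E) p
  rw [isWA_iff_weakAss, isWA_iff_weakAss]
  refine ⟨fun h => mem_weakAss_of_tensor' p (Groth.L20.WeakAssFinite.under_mem_weakAss p t h), fun h => ?_⟩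
  rw [← isWA_iff_weakAss] at h ⊢
  refine WA.isWA_tensor (fun Q hQ hQt hQp => ?_) ((t.over_def p) ▸ h)
  haveI := hQ
  exact Algebra.QuasiFinite.eq_of_le_of_under_eq Q t hQt hQp

theorem mem_weakAss_pull_iff [G.IsQuasicoherent] [(pullM hf G).IsQuasicoherent] (hY : IsAlgSpace Y)
    (hfin : RepWith @IsFinite f) (hflat : RepWith @Flat f) (x : Points X) :
    x ∈ WeakAssEt (pullM hf G) ↔ Points.map f x ∈ WeakAssEt G := by
  obtain ⟨E, hE, e, he⟩ := exists_affine_chart hY (Points.map f x)
  haveI : IsFinite (EtOver.bcπ hf E).left := Groth.L23.repWith_snd hfin E.obj.hom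
  haveI : IsAffine (EtOver.bcObj hf E).obj.left.left := isAffine_of_isAffineHom (EtOver.bcπ hf E).left
  obtain ⟨w, hw, hwe⟩ := Groth.L23.exists_point_of_isPullback (EtOver.isPullback_bcObj hf E) (x := x) (u := e)
    he.symm
  constructor
  · rintro ⟨E', hE', u', hu', h⟩
    refine ⟨E, hE, e, he, hwe ▸ (isWeakAssOn_bcObj_iff hf G hfin hflat E w).1 ?_⟩
    exact (isWeakAssOn_congr _ w u' (hw.trans hu'.symm)).2 h
  · rintro ⟨E', hE', u', hu', h⟩
    refine ⟨_, inferInstance, w, hw, (isWeakAssOn_bcObj_iff hf G hfin hflat E w).2 ?_⟩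
    exact hwe ▸ (isWeakAssOn_congr G e u' (he.trans hu'.symm)).2 h

end Groth.L09.Pull
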