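import Groth.Agent.L09.Pull.Chart
import Groth.Agent.L01.ProjDescent
import Groth.Agent.L23.Points

/-!
# Locally projective quasi-coherent modules
-/

universe u v

open CategoryTheory CategoryTheory.Limits AlgebraicGeometry Opposite AlgSp TensorProduct

set_option autoImplicit false
set_option linter.style.haveILetI false
set_option backward.isDefEq.respectTransparency false
set_option backward.isDefEq.respectTransparency.types false

noncomputable section

namespace Groth.L09.Pull

open ModEt

section Algebra

/-- A module over a finite product of rings is projective if its components are. -/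
theorem projective_of_pi {ι : Type u} [Finite ι] {S : ι → Type u} [∀ k, CommRing (S k)]
    {N : Type u} [AddCommGroup N] [Module (Π k, S k) N]
    (h : ∀ k, letI := (Pi.evalRingHom S k).toAlgebra
      Module.Projective (S k) (S k ⊗[Π k, S k] N)) : Module.Projective (Π k, S k) N := by
  classical
  cases nonempty_fintype ι
  letI : ∀ k, Algebra (Π k, S k) (S k) := fun k => (Pi.evalRingHom S k).toAlgebra
  have hS : ∀ k, Module.Projective (Π k, S k) (S k) := fun k => by
    let i : S k →ₗ[Π k, S k] (Π k, S k) :=
      { toFun := fun s => Pi.single k s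
        map_add' := fun s t => Pi.single_add k s t
        map_smul' := fun r s => funext fun j => by
          show Pi.single k (r k * s) j = r j * Pi.single k s j
          by_cases hj : j = k
          · subst hj; simp
          · simp [hj] }
    let q : (Π k, S k) →ₗ[Π k, S k] S k :=
      { toFun := fun x => x k
        map_add' := fun _ _ => rfl
        map_smul' := fun r x => rfl }
    exact Module.Projective.of_split i q (LinearMap.ext fun s => Pi.single_eq_same k s)
  haveI : ∀ k, Module.Projective (Π k, S k) (S k ⊗[Π k, S k] N) := fun k => by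
    classical
    haveI := hS k
    obtain ⟨i, hi⟩ := Module.projective_def'.1 (h k)
    haveI : Module.Projective (Π k, S k) (S k ⊗[Π k, S k] N →₀ S k) :=
      Module.Projective.of_equiv'
        (finsuppLequivDFinsupp (ι := S k ⊗[Π k, S k] N) (M := S k) (Π k, S k)).symm
    exact Module.Projective.of_split (i.restrictScalars (Π k, S k))
      ((Finsupp.linearCombination (S k) id).restrictScalars (Π k, S k))
      (LinearMap.ext fun x => LinearMap.congr_fun hi x)
  have e₀ : (Π k, S k) ⊗[Π k, S k] N ≃ₗ[Π k, S k] N := TensorProduct.lid _ N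
  let e₁ : (Π k, S k) ⊗[Π k, S k] N ≃ₗ[Π k, S k] Π k, S k ⊗[Π k, S k] N := TensorProduct.piLeft (Π k, S k) N S
  haveI : Module.Projective (Π k, S k) (Π₀ k, S k ⊗[Π k, S k] N) := inferInstance
  haveI : Module.Projective (Π k, S k) (Π k, S k ⊗[Π k, S k] N) :=
    Module.Projective.of_equiv' (DFinsupp.linearEquivFunOnFintype
      (R := Π k, S k) (M := fun k => S k ⊗[Π k, S k] N))
  exact Module.Projective.of_equiv' (e₁.symm.trans e₀)

/-- Projectivity descends along a finite faithfully flat family. -/
theorem projective_of_family {A : Type u} [CommRing A] {ι : Type u} [Finite ι] (S : ι → Type u)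
    [∀ k, CommRing (S k)] [∀ k, Algebra A (S k)] [Module.FaithfullyFlat A (Π k, S k)]
    {N : Type u} [AddCommGroup N] [Module A N] (h : ∀ k, Module.Projective (S k) (S k ⊗[A] N)) :
    Module.Projective A N := by
  haveI : Module.Projective (Π k, S k) ((Π k, S k) ⊗[A] N) := projective_of_pi fun k => by
    letI := (Pi.evalRingHom S k).toAlgebra
    haveI : IsScalarTower A (Π k, S k) (S k) := IsScalarTower.of_algebraMap_eq fun a => rfl
    haveI := h k
    exact Module.Projective.of_equiv' (AlgebraTensorModule.cancelBaseChange A (Π k, S k) (S k) (S k) N).symm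
  exact Groth.L01.ProjDescent.projective (Π k, S k)

end Algebra

variable {S : Scheme.{u}} {X : Sp S} (F : ModEt X)

/-- The sections over an object form a projective module. -/
def ProjAt (E : EtOver X) : Prop := Module.Projective (Γ₀ E) (sectModEt F E)

theorem projAt_of_map [F.IsQuasicoherent] {E E' : EtOver X} [IsAffine E.obj.left.left]
    [IsAffine E'.obj.left.left] (g : E' ⟶ E) (h : ProjAt F E) : ProjAt F E' := by
  letI := (pb g).toAlgebra
  haveI : Module.Projective (Γ₀ E) (sectModEt F E) := h
  exact Module.Projective.of_equiv' (bcEquiv F g (bc_of_isQuasicoherent F g))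

theorem projAt_of_cover [F.IsQuasicoherent] {E : EtOver X} [IsAffine E.obj.left.left]
    {N : Type u} [AddCommGroup N] [Module (Γ₀ E) N] (e : N ≃ₗ[Γ₀ E] sectModEt F E)
    {ι : Type u} [Finite ι] {V : ι → EtOver X} [∀ k, IsAffine (V k).obj.left.left] {g : ∀ k, V k ⟶ E}
    (hg : IsCover g) (h : ∀ k, ProjAt F (V k)) : Module.Projective (Γ₀ E) N := by
  letI := fun k => (pb (g k)).toAlgebra
  haveI := faithfullyFlat_pi hg
  refine projective_of_family (fun k => Γ₀ (V k)) fun k => ?_
  haveI : Module.Projective (Γ₀ (V k)) (sectModEt F (V k)) := h k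
  exact Module.Projective.of_equiv'
    ((TensorProduct.AlgebraTensorModule.congr (LinearEquiv.refl (Γ₀ (V k)) (Γ₀ (V k))) e).trans
      (bcEquiv F (g k) (bc_of_isQuasicoherent F (g k)))).symm

section Charts

variable {U : Over S} {p : (yon S).obj U ⟶ X} (hrep : Representable p) (hp : RepWith @Etale p)
  [(SheafOfModules.pushforward.{u + 1} (bcRingHom hrep)).IsRightAdjoint] [F.IsQuasicoherent]
  {H : U.left.Modules} (c : ZarCompanion U.left H ((resSchModEt U).obj (pullM hrep F)))

include c in
theorem projAt_open_iff {W : U.left.Opens} (hW : IsAffineOpen W) :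
    Module.Projective (U.left.ringCatSheaf.obj.obj (op W)) (H.val.obj (op W)) ↔
      ProjAt F (pushObj hp (openEt U W)) := by
  haveI : IsAffine (openEt U W).obj.left.left := hW
  obtain ⟨N, _, _, e, hiff⟩ := exists_zariski (pullM hrep F) c W
  rw [hiff]
  let e' : N ≃ₗ[Γ₀ (openEt U W)] sectModEt F (pushObj hp (openEt U W)) :=
    e.trans (resPushEquiv hp hrep F (openEt U W)).symm
  exact ⟨fun h => haveI := h; (Module.Projective.of_equiv' e' :),
    fun h => haveI : Module.Projective (Γ₀ (openEt U W)) (sectModEt F (pushObj hp (openEt U W))) := h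
      (Module.Projective.of_equiv' e'.symm :)⟩

include c hp in
theorem projAt_of_charts (hs : RepWith @Surjective p)
    (hG : ∀ W : U.left.Opens, IsAffineOpen W →
      Module.Projective (U.left.ringCatSheaf.obj.obj (op W)) (H.val.obj (op W)))
    {E : EtOver X} [IsAffine E.obj.left.left] {N : Type u} [AddCommGroup N] [Module (Γ₀ E) N]
    (e : N ≃ₗ[Γ₀ E] sectModEt F E) : Module.Projective (Γ₀ E) N := by
  have hloc : ∀ z : E.obj.left.left, ∃ (V : EtOver X) (_ : IsAffine V.obj.left.left) (g : V ⟶ E)
      (W : U.left.Opens) (_ : IsAffineOpen W) (_ : V ⟶ pushObj hp (openEt U W)),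
      z ∈ Set.range g.hom.left.left := fun z => by
    obtain ⟨v, hv⟩ := Groth.L23.surjective_ofPt hs (Points.ofPt E.obj.hom z)
    obtain ⟨_, ⟨(W : U.left.Opens), hW, rfl⟩, hvW, -⟩ :=
      U.left.isBasis_affineOpens.exists_subset_of_mem_open (Set.mem_univ v) isOpen_univ
    let w : (pushObj hp (openEt U W)).obj.left.left := (⟨v, hvW⟩ : W)
    have hw : Points.ofPt E.obj.hom z = Points.ofPt (pushObj hp (openEt U W)).obj.hom w := by
      rw [← hv]
      show _ = Points.ofPt (((yon S).map (EtOver.homOfEtale (etaleOfOpen U.left W)) ≫ 𝟙 _) ≫ p) _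
      rw [Category.comp_id, Groth.L23.ofPt_comp]
      rfl
    obtain ⟨V, hV, g₁, g₂, x, hx, -⟩ := exists_common z w hw
    exact ⟨V, hV, g₁, W, hW, g₂, x, hx⟩
  choose V hV g W hW h hz using hloc
  obtain ⟨ι, _, Z, q, hZ, hq, hcov⟩ := exists_finite_cover
    (ofArrows_mem_etTop V g fun z => ⟨z, hz z⟩)
  haveI := hZ
  refine projAt_of_cover F e hcov fun k => ?_
  obtain ⟨z, l, -⟩ := (Sieve.mem_ofArrows_iff _ _ _).1 (hq k)
  haveI : IsAffine (pushObj hp (openEt U (W z))).obj.left.left := hW z
  exact projAt_of_map F (l ≫ h z) ((projAt_open_iff F hrep hp c (hW z)).1 (hG _ (hW z)))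

end Charts

end Groth.L09.Pull
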