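import Groth.Agent.L09.Pull.Tn

/-!
# Transferring sections of a quasi-coherent module to its candidate base change
-/

universe u

open CategoryTheory CategoryTheory.Limits AlgebraicGeometry Opposite AlgSp TensorProduct

set_option autoImplicit false
set_option linter.style.haveILetI false
set_option backward.isDefEq.respectTransparency false
set_option backward.isDefEq.respectTransparency.types false

noncomputable section

namespace Groth.L09.Pull

open ModEt

variable {S : Scheme.{u}} {X Y : Sp S} {f : X ⟶ Y} (hf : Representable f) (G : ModEt Y) {E : EtOver Y}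

/-- The algebra map from the functions on an affine object over the base. -/
def pAlg {P : EtOver Y} (a : P ⟶ E) {Z : EtOver X} {u : Z ⟶ EtOver.bcObj hf E} (k : Z ⟶ EtOver.bcObj hf P)
    (h : k ≫ EtOver.bcMap hf a = u) :
    letI := (pb a).toAlgebra
    Γ₀ P →ₐ[Γ₀ E] Rg hf u :=
  letI := (pb a).toAlgebra
  { ((pb k).comp (π₀ hf P) : Γ₀ P →+* Γ₀ Z) with
    commutes' := fun r => by
      subst h
      show pb k (π₀ hf P (pb a r)) = pb (k ≫ EtOver.bcMap hf a) (π₀ hf E r)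
      rw [pb_comp, π₀_nat] }

variable [G.IsQuasicoherent] [IsAffine E.obj.left.left]

/-- Sections over an affine object over the base, as elements of the candidate base change. -/
def toTn {P : EtOver Y} [IsAffine P.obj.left.left] (a : P ⟶ E) {Z : EtOver X} {u : Z ⟶ EtOver.bcObj hf E}
    (k : Z ⟶ EtOver.bcObj hf P) (h : k ≫ EtOver.bcMap hf a = u) : sectModEt G P →+ Tn hf G u :=
  letI := (pb a).toAlgebra
  (LinearMap.rTensor (sectModEt G E) (pAlg hf a k h).toLinearMap).toAddMonoidHom.comp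
    (bcEquiv G a (bc_of_isQuasicoherent G a)).symm.toLinearMap.toAddMonoidHom

theorem toTn_res {P : EtOver Y} [IsAffine P.obj.left.left] (a : P ⟶ E) {Z : EtOver X}
    {u : Z ⟶ EtOver.bcObj hf E} (k : Z ⟶ EtOver.bcObj hf P) (h : k ≫ EtOver.bcMap hf a = u) (b : Γ₀ P)
    (m : sectModEt G E) : toTn hf G a k h (b • res G a m) = mkTn hf G u (pb k (π₀ hf P b)) m := by
  letI := (pb a).toAlgebra
  have : (bcEquiv G a (bc_of_isQuasicoherent G a)).symm (b • res G a m) = b ⊗ₜ m :=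
    (LinearEquiv.symm_apply_eq _).2 (θ_tmul G a b m).symm
  show LinearMap.rTensor (sectModEt G E) (pAlg hf a k h).toLinearMap
    ((bcEquiv G a (bc_of_isQuasicoherent G a)).symm (b • res G a m)) = _
  rw [this]
  rfl

theorem sect_induction {P : EtOver Y} [IsAffine P.obj.left.left] (a : P ⟶ E) {C : sectModEt G P → Prop}
    (h0 : C 0) (hadd : ∀ x y, C x → C y → C (x + y)) (h : ∀ (b : Γ₀ P) (m : sectModEt G E), C (b • res G a m)) (y : sectModEt G P) : C y := by
  letI := (pb a).toAlgebra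
  obtain ⟨t, rfl⟩ := (bc_of_isQuasicoherent G a).2 y
  induction t using TensorProduct.induction_on with
  | zero => rwa [map_zero]
  | tmul b m => rw [θ_tmul]; exact h b m
  | add t t' ht ht' => rw [map_add]; exact hadd _ _ ht ht'

theorem toTn_natural {P P' : EtOver Y} [IsAffine P.obj.left.left] [IsAffine P'.obj.left.left] (a : P ⟶ E)
    (c : P' ⟶ P) {Z Z' : EtOver X} (z : Z' ⟶ Z) {u : Z ⟶ EtOver.bcObj hf E} {u' : Z' ⟶ EtOver.bcObj hf E}
    (hz : z ≫ u = u') (k : Z ⟶ EtOver.bcObj hf P) (h : k ≫ EtOver.bcMap hf a = u)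
    (k' : Z' ⟶ EtOver.bcObj hf P') (e : k' ≫ EtOver.bcMap hf c = z ≫ k) (y : sectModEt G P) :
    tres hf G z hz (toTn hf G a k h y) = toTn hf G (c ≫ a) k'
      (by rw [bcMap_comp, ← Category.assoc, e, Category.assoc, h, hz]) (res G c y) := by
  induction y using sect_induction G a with
  | h0 => simp
  | hadd x y hx hy => simp only [map_add, hx, hy]
  | h b m =>
    rw [toTn_res, tres_mk, res_smul, ← res_comp, toTn_res, ← pb_comp, ← e, pb_comp, π₀_nat]

theorem toTn_congr {P : EtOver Y} [IsAffine P.obj.left.left] {a a' : P ⟶ E} (ea : a = a') {Z : EtOver X}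
    {u : Z ⟶ EtOver.bcObj hf E} {k k' : Z ⟶ EtOver.bcObj hf P} (ek : k = k') (h : k ≫ EtOver.bcMap hf a = u)
    (y : sectModEt G P) : toTn hf G a k h y = toTn hf G a' k' (by rw [← ea, ← ek]; exact h) y := by
  subst ea; subst ek; rfl

theorem toTn_smul {P : EtOver Y} [IsAffine P.obj.left.left] (a : P ⟶ E) {Z : EtOver X}
    {u : Z ⟶ EtOver.bcObj hf E} (k : Z ⟶ EtOver.bcObj hf P) (h : k ≫ EtOver.bcMap hf a = u) (r : Γ₀ P)
    (y : sectModEt G P) : toTn hf G a k h (r • y) = pb k (π₀ hf P r) • toTn hf G a k h y := by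
  induction y using sect_induction G a with
  | h0 => simp
  | hadd x y hx hy => simp only [smul_add, map_add, hx, hy]
  | h b m => rw [smul_smul, toTn_res, toTn_res, smul_mkTn, map_mul, map_mul]

/-- The candidate of a section over an object over the base. -/
def IsT {P : EtOver Y} (a : P ⟶ E) {Z : EtOver X} (u : Z ⟶ EtOver.bcObj hf E) (k : Z ⟶ EtOver.bcObj hf P)
    (y : sectModEt G P) (t : Tn hf G u) : Prop :=
  ∀ (Z' : EtOver X) (_ : IsAffine Z'.obj.left.left) (z : Z' ⟶ Z) (P' : EtOver Y) (_ : IsAffine P'.obj.left.left)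
    (c : P' ⟶ P) (k' : Z' ⟶ EtOver.bcObj hf P') (_ : k' ≫ EtOver.bcMap hf c = z ≫ k)
    (h : k' ≫ EtOver.bcMap hf (c ≫ a) = z ≫ u), tres hf G z rfl t = toTn hf G (c ≫ a) k' h (res G c y)

theorem toTn_agree {P : EtOver Y} (a : P ⟶ E) (y : sectModEt G P) {Z : EtOver X} [IsAffine Z.obj.left.left]
    {u : Z ⟶ EtOver.bcObj hf E} {P₁ P₂ : EtOver Y} [IsAffine P₁.obj.left.left] [IsAffine P₂.obj.left.left]
    (c₁ : P₁ ⟶ P) (c₂ : P₂ ⟶ P) (k₁ : Z ⟶ EtOver.bcObj hf P₁) (k₂ : Z ⟶ EtOver.bcObj hf P₂)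
    (e : k₁ ≫ EtOver.bcMap hf c₁ = k₂ ≫ EtOver.bcMap hf c₂)
    (h₁ : k₁ ≫ EtOver.bcMap hf (c₁ ≫ a) = u) (h₂ : k₂ ≫ EtOver.bcMap hf (c₂ ≫ a) = u) :
    toTn hf G (c₁ ≫ a) k₁ h₁ (res G c₁ y) = toTn hf G (c₂ ≫ a) k₂ h₂ (res G c₂ y) := by
  have hpb := EtOver.isPullback_bc_map_pullback hf c₁ c₂
  obtain ⟨k, hk₁, hk₂⟩ := hpb.exists_lift k₁ k₂ e
  obtain ⟨ι, _, V, g, Q, c, k', hg, hV, hQ, hk'⟩ := exists_lift_affine hf k
  rw [← sub_eq_zero]
  refine tn_separated hf G hg fun i => ?_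
  haveI := hQ i
  have e₁ : k' i ≫ EtOver.bcMap hf (c i ≫ EtOver.pullbackFst c₁ c₂) = g i ≫ k₁ := by
    rw [bcMap_comp, reassoc_of% (hk' i)]
    exact congrArg (g i ≫ ·) hk₁
  have e₂ : k' i ≫ EtOver.bcMap hf (c i ≫ EtOver.pullbackSnd c₁ c₂) = g i ≫ k₂ := by
    rw [bcMap_comp, reassoc_of% (hk' i)]
    exact congrArg (g i ≫ ·) hk₂
  rw [map_sub, sub_eq_zero, toTn_natural hf G (c₁ ≫ a) _ (g i) rfl k₁ h₁ (k' i) e₁,
    toTn_natural hf G (c₂ ≫ a) _ (g i) rfl k₂ h₂ (k' i) e₂, ← res_comp, ← res_comp]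
  have eq : (c i ≫ EtOver.pullbackFst c₁ c₂) ≫ c₁ = (c i ≫ EtOver.pullbackSnd c₁ c₂) ≫ c₂ := by
    rw [Category.assoc, Category.assoc, EtOver.pullback_condition]
  rw [toTn_congr hf G (a' := (c i ≫ EtOver.pullbackSnd c₁ c₂) ≫ c₂ ≫ a) (by rw [← Category.assoc, eq, Category.assoc])
    rfl]
  exact congrArg _ (congrArg (fun d => res G d y) eq)

theorem exists_isT {P : EtOver Y} (a : P ⟶ E) {Z : EtOver X} [IsAffine Z.obj.left.left]
    (u : Z ⟶ EtOver.bcObj hf E) (k : Z ⟶ EtOver.bcObj hf P) (hk : k ≫ EtOver.bcMap hf a = u)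
    (y : sectModEt G P) : ∃ t, IsT hf G a u k y t := by
  obtain ⟨ι, _, V, g, Q, c, k', hg, hV, hQ, hk'⟩ := exists_lift_affine hf k
  haveI := hV
  haveI := hQ
  have hh : ∀ i, k' i ≫ EtOver.bcMap hf (c i ≫ a) = g i ≫ u := fun i => by
    rw [bcMap_comp, reassoc_of% (hk' i), hk]
  obtain ⟨t, ht⟩ := tn_glue hf G hg (u := u) (fun i => toTn hf G (c i ≫ a) (k' i) (hh i) (res G (c i) y))
    fun i j => by
      haveI := isAffine_pullback (g i) (g j)
      rw [toTn_natural hf G (c i ≫ a) (𝟙 _) _ _ (k' i) _ (EtOver.pullbackFst (g i) (g j) ≫ k' i)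
          (by rw [bcMap_id, Category.comp_id]),
        toTn_natural hf G (c j ≫ a) (𝟙 _) _ _ (k' j) _ (EtOver.pullbackSnd (g i) (g j) ≫ k' j)
          (by rw [bcMap_id, Category.comp_id])]
      simp only [Category.id_comp, res_id]
      refine toTn_agree hf G a y (c i) (c j) _ _ ?_ _ _
      rw [Category.assoc, Category.assoc, hk' i, hk' j, ← Category.assoc, ← Category.assoc,
        EtOver.pullback_condition]
  refine ⟨t, fun Z' hZ' z P' hP' c' k'' e h => ?_⟩
  rw [← sub_eq_zero]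
  haveI := fun i => isAffine_pullback z (g i)
  refine tn_separated hf G (hg.pullback z) fun i => ?_
  let p := EtOver.pullbackFst z (g i)
  let q := EtOver.pullbackSnd z (g i)
  rw [map_sub, sub_eq_zero, tres_comp, tres_congr hf G (EtOver.pullback_condition z (g i)),
    ← tres_comp hf G q (g i) (u' := g i ≫ u) rfl
      (by rw [← Category.assoc, ← EtOver.pullback_condition, Category.assoc]), ht i,
    toTn_natural hf G (c i ≫ a) (𝟙 _) q _ (k' i) _ (q ≫ k' i) (by rw [bcMap_id, Category.comp_id]),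
    toTn_natural hf G (c' ≫ a) (𝟙 _) p _ k'' _ (p ≫ k'') (by rw [bcMap_id, Category.comp_id])]
  simp only [Category.id_comp, res_id]
  refine toTn_agree hf G a y (c i) c' _ _ ?_ _ _
  rw [Category.assoc, Category.assoc, hk' i, e, ← Category.assoc, ← Category.assoc, EtOver.pullback_condition]

theorem isT_unique {P : EtOver Y} {a : P ⟶ E} {Z : EtOver X} [IsAffine Z.obj.left.left]
    {u : Z ⟶ EtOver.bcObj hf E} {k : Z ⟶ EtOver.bcObj hf P} (hk : k ≫ EtOver.bcMap hf a = u)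
    {y : sectModEt G P} {t t' : Tn hf G u} (ht : IsT hf G a u k y t) (ht' : IsT hf G a u k y t') : t = t' := by
  obtain ⟨ι, _, V, g, Q, c, k', hg, hV, hQ, hk'⟩ := exists_lift_affine hf k
  haveI := hV
  rw [← sub_eq_zero]
  refine tn_separated hf G hg fun i => ?_
  have h : k' i ≫ EtOver.bcMap hf (c i ≫ a) = g i ≫ u := by rw [bcMap_comp, reassoc_of% (hk' i), hk]
  rw [map_sub, sub_eq_zero, ht (V i) (hV i) (g i) (Q i) (hQ i) (c i) (k' i) (hk' i) h,
    ht' (V i) (hV i) (g i) (Q i) (hQ i) (c i) (k' i) (hk' i) h]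

/-- The transfer of sections over an object over the base to the candidate base change. -/
def T {P : EtOver Y} (a : P ⟶ E) {Z : EtOver X} [IsAffine Z.obj.left.left] {u : Z ⟶ EtOver.bcObj hf E}
    (k : Z ⟶ EtOver.bcObj hf P) (hk : k ≫ EtOver.bcMap hf a = u) : sectModEt G P →+ Tn hf G u :=
  AddMonoidHom.mk' (fun y => (exists_isT hf G a u k hk y).choose) fun y y' => by
    refine isT_unique hf G hk (exists_isT hf G a u k hk (y + y')).choose_spec
      fun Z' hZ' z P' hP' c k' e h => ?_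
    rw [map_add, map_add, map_add, (exists_isT hf G a u k hk y).choose_spec Z' hZ' z P' hP' c k' e h,
      (exists_isT hf G a u k hk y').choose_spec Z' hZ' z P' hP' c k' e h]

theorem isT_T {P : EtOver Y} (a : P ⟶ E) {Z : EtOver X} [IsAffine Z.obj.left.left] {u : Z ⟶ EtOver.bcObj hf E}
    (k : Z ⟶ EtOver.bcObj hf P) (hk : k ≫ EtOver.bcMap hf a = u) (y : sectModEt G P) :
    IsT hf G a u k y (T hf G a k hk y) := (exists_isT hf G a u k hk y).choose_spec

theorem tres_T {P : EtOver Y} (a : P ⟶ E) {Z Z' : EtOver X} [IsAffine Z.obj.left.left]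
    [IsAffine Z'.obj.left.left] {u : Z ⟶ EtOver.bcObj hf E} {u' : Z' ⟶ EtOver.bcObj hf E} (z : Z' ⟶ Z)
    (hz : z ≫ u = u') (k : Z ⟶ EtOver.bcObj hf P) (hk : k ≫ EtOver.bcMap hf a = u) (y : sectModEt G P) :
    tres hf G z hz (T hf G a k hk y) = T hf G a (z ≫ k) (by rw [Category.assoc, hk, hz]) y := by
  subst hz
  refine isT_unique hf G (by rw [Category.assoc, hk]) (fun Z'' hZ'' z' P' hP' c k' e h => ?_) (isT_T hf G a _ _ y)
  rw [tres_comp]
  refine (isT_T hf G a k hk y Z'' hZ'' (z' ≫ z) P' hP' c k' (by rw [e, Category.assoc])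
    (by rw [h, Category.assoc]) :) ▸ ?_
  rfl

theorem T_congr {P : EtOver Y} {a : P ⟶ E} {Z : EtOver X} [IsAffine Z.obj.left.left]
    {u : Z ⟶ EtOver.bcObj hf E} {k k' : Z ⟶ EtOver.bcObj hf P} (ek : k = k')
    (hk : k ≫ EtOver.bcMap hf a = u) (y : sectModEt G P) :
    T hf G a k hk y = T hf G a k' (ek ▸ hk) y := by subst ek; rfl

theorem T_res {P P' : EtOver Y} (a : P ⟶ E) (c : P' ⟶ P) {a' : P' ⟶ E} (ha : c ≫ a = a') {Z : EtOver X}
    [IsAffine Z.obj.left.left] {u : Z ⟶ EtOver.bcObj hf E} (k' : Z ⟶ EtOver.bcObj hf P')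
    (hk : k' ≫ EtOver.bcMap hf a' = u) (y : sectModEt G P) :
    T hf G a' k' hk (res G c y) = T hf G a (k' ≫ EtOver.bcMap hf c)
      (by rw [Category.assoc, ← bcMap_comp, ha, hk]) y := by
  subst ha
  refine isT_unique hf G hk (isT_T hf G _ k' hk _) fun Z' hZ' z Q hQ d l e h => ?_
  rw [isT_T hf G a _ _ y Z' hZ' z Q hQ (d ≫ c) l
      (by rw [bcMap_comp, ← Category.assoc, e, Category.assoc]) (by rw [Category.assoc]; exact h),
    res_comp]
  exact toTn_congr hf G (Category.assoc _ _ _) rfl _ _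

theorem T_affine {P : EtOver Y} [IsAffine P.obj.left.left] (a : P ⟶ E) {Z : EtOver X} [IsAffine Z.obj.left.left]
    {u : Z ⟶ EtOver.bcObj hf E} (k : Z ⟶ EtOver.bcObj hf P) (hk : k ≫ EtOver.bcMap hf a = u)
    (y : sectModEt G P) : T hf G a k hk y = toTn hf G a k hk y := by
  have := isT_T hf G a k hk y Z ‹_› (𝟙 Z) P ‹_› (𝟙 P) k (by rw [bcMap_id, Category.comp_id, Category.id_comp])
    (by rw [Category.id_comp, Category.id_comp, hk])
  simp only [Category.id_comp, res_id] at this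
  rw [← tres_id hf G (T hf G a k hk y)]
  exact this

theorem T_smul {P : EtOver Y} (a : P ⟶ E) {Z : EtOver X} [IsAffine Z.obj.left.left]
    {u : Z ⟶ EtOver.bcObj hf E} (k : Z ⟶ EtOver.bcObj hf P) (hk : k ≫ EtOver.bcMap hf a = u) (r : Γ₀ P)
    (y : sectModEt G P) : T hf G a k hk (r • y) = pb k (π₀ hf P r) • T hf G a k hk y := by
  refine isT_unique hf G hk (isT_T hf G a k hk _) fun Z' hZ' z Q hQ c l e h => ?_
  rw [tres_smul, isT_T hf G a k hk y Z' hZ' z Q hQ c l e h, res_smul, toTn_smul]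
  congr 1
  rw [← pb_comp, ← e, pb_comp, π₀_nat]

end Groth.L09.Pull
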